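import Groth.Agent.SubtrVal.ValRing
import Groth.Agent.S14766
import Groth.Agent.DomDVR.Dominate
import Groth.Agent.DomLib.ProConsClosure
import Groth.Prelude.Def_SGA1
import Mathlib.RingTheory.TensorProduct.DirectLimitFG
import Mathlib.RingTheory.PowerSeries.Inverse
/-!
Universally submersive and universally subtrusive quasi-compact morphisms.
-/

set_option autoImplicit false
set_option backward.isDefEq.respectTransparency false
set_option backward.isDefEq.respectTransparency.types false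

universe u

open CategoryTheory CategoryTheory.Limits AlgebraicGeometry IsLocalRing TensorProduct Topology

namespace Groth.Agent.SubtrVal

theorem isClosed_of_stable {X Y : Scheme.{u}} (f : X ⟶ Y) [QuasiCompact f] (hsurj : Function.Surjective f)
    {C : Set Y} (hC : IsClosed (f ⁻¹' C)) (h : ∀ z ∈ C, ∀ y, z ⤳ y → y ∈ C) : IsClosed C := by
  have hp : ProCons.IsProConstructible C := by
    rw [← Set.image_preimage_eq C hsurj]
    refine ProConsLib.isProConstructible_image f ((ProConsLib.isProConstructible_iff _).2 fun A hA => ?_)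
    haveI := ProConsLib.spectralSpace_of_isAffineOpen hA
    exact SpectralLib.isClosed_C_of_isClosed (hC.preimage continuous_subtype_val)
  rw [← closure_subset_iff_isClosed]
  intro y hy
  obtain ⟨z, hz, hzy⟩ := DomLib.exists_specializes_of_mem_closure hp hy
  exact h z hz y hzy

theorem isQuotientMap_of_valuation {X Y : Scheme.{u}} (f : X ⟶ Y) [QuasiCompact f]
    (h : ∀ (V : Type u) [CommRing V] [IsDomain V] [ValuationRing V] (g : Spec (CommRingCat.of V) ⟶ Y),
      IsQuotientMap (pullback.snd f g)) : IsQuotientMap f := by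
  have hsurj : Function.Surjective f := fun y => by
    obtain ⟨V, _, _, _, l, hl', -⟩ := exists_valuationRing (specializes_refl y)
    obtain ⟨x, hx⟩ := (h V l).surjective (⊥ : PrimeSpectrum V)
    exact ⟨pullback.fst f l x, by rw [← Scheme.Hom.comp_apply, pullback.condition, Scheme.Hom.comp_apply, hx, hl']⟩
  refine isQuotientMap_iff_isClosed.2 ⟨hsurj, fun C => ⟨fun hC => hC.preimage f.continuous, fun hC =>
    isClosed_of_stable f hsurj hC fun z hz y hzy => ?_⟩⟩
  obtain ⟨V, _, _, _, l, hl', hl⟩ := exists_valuationRing hzy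
  have hcl : IsClosed (l ⁻¹' C) := by
    rw [← (h V l).isClosed_preimage]
    convert hC.preimage (pullback.fst f l).continuous using 1
    ext w
    show l (pullback.snd f l w) ∈ C ↔ f (pullback.fst f l w) ∈ C
    rw [← Scheme.Hom.comp_apply, ← Scheme.Hom.comp_apply, pullback.condition]
  have h0 : (⊥ : PrimeSpectrum V) ∈ l ⁻¹' C := by
    show l (⊥ : PrimeSpectrum V) ∈ C
    rw [hl']; exact hz
  have h1 : l (closedPoint V) ∈ C :=
    ((PrimeSpectrum.le_iff_specializes (⊥ : PrimeSpectrum V) (closedPoint V)).1 bot_le).mem_closed hcl h0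
  rwa [hl] at h1

theorem univSubmersive_iff_valuationRing {X Y : Scheme.{u}} (f : X ⟶ Y) [QuasiCompact f] :
    SGA1.UnivSubmersive f ↔
      ∀ (V : Type u) [CommRing V] [IsDomain V] [ValuationRing V] (g : Spec (CommRingCat.of V) ⟶ Y),
        IsQuotientMap (pullback.snd f g) := by
  refine ⟨fun h V _ _ _ g => h _ _ _ (IsPullback.of_hasPullback f g).flip, fun h X' Y' i₁ i₂ f' sq => ?_⟩
  haveI : QuasiCompact f' := MorphismProperty.of_isPullback sq.flip ‹QuasiCompact f›
  refine isQuotientMap_of_valuation f' fun V _ _ _ g => ?_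
  have sq' := (IsPullback.of_hasPullback f' g).paste_horiz sq.flip
  have hq := h V (g ≫ i₂)
  have e : pullback.snd f' g = sq'.isoPullback.hom ≫ pullback.snd f (g ≫ i₂) := sq'.isoPullback_hom_snd.symm
  rw [e, Scheme.Hom.comp_base, TopCat.coe_comp]
  exact hq.comp (Scheme.homeoOfIso sq'.isoPullback).isQuotientMap

theorem univSubmersive_of_univSSubtrusive {X Y : Scheme.{u}} (f : X ⟶ Y) [QuasiCompact f]
    (hf : Subtr.UnivSSubtrusive f) : SGA1.UnivSubmersive f := by
  intro X' Y' i₁ i₂ f' sq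
  haveI : QuasiCompact f' := MorphismProperty.of_isPullback sq.flip ‹QuasiCompact f›
  have hp : Subtr.IsSSubtrusive f' := hf _ _ _ sq
  have hsurj : Function.Surjective f' := fun y =>
    let ⟨x, _, _, hx, _⟩ := hp (specializes_refl y)
    ⟨x, hx⟩
  refine isQuotientMap_iff_isClosed.2 ⟨hsurj, fun C => ⟨fun hC => hC.preimage f'.continuous, fun hC =>
    isClosed_of_stable f' hsurj hC fun z hz y hzy => ?_⟩⟩
  obtain ⟨x, x', hx, rfl, rfl⟩ := hp hzy
  exact (hx.mem_closed hC hz : x ∈ f' ⁻¹' C)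

/-- It suffices to lift the generic-closed pair of every valuation ring. -/
theorem univSSubtrusive_of_pairs {X Y : Scheme.{u}} (f : X ⟶ Y)
    (h : ∀ (V : Type u) [CommRing V] [IsDomain V] [ValuationRing V] (g : Spec (CommRingCat.of V) ⟶ Y),
      ∃ a a' : ↥(pullback f g), a' ⤳ a ∧ pullback.snd f g a = closedPoint V ∧
        pullback.snd f g a' = (⊥ : PrimeSpectrum V)) :
    Subtr.UnivSSubtrusive f := by
  intro X' Y' i₁ i₂ f' sq y y' hy
  obtain ⟨V, _, _, _, l, hl', hl⟩ := exists_valuationRing hy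
  obtain ⟨a, a', ha, e, e'⟩ := h V (l ≫ i₂)
  obtain ⟨w, hw₁, hw₂⟩ := sq.exists_lift (pullback.snd f (l ≫ i₂) ≫ l) (pullback.fst f (l ≫ i₂))
    (by rw [Category.assoc, pullback.condition])
  refine ⟨w a, w a', ha.map w.continuous, ?_, ?_⟩
  · rw [← Scheme.Hom.comp_apply, hw₁, Scheme.Hom.comp_apply, e, hl]
  · rw [← Scheme.Hom.comp_apply, hw₁, Scheme.Hom.comp_apply, e', hl']

/-- The lifting property for the generic-closed pairs of discrete valuation rings. -/
def DvrPairs {X Y : Scheme.{u}} (f : X ⟶ Y) : Prop :=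
  ∀ (D : Type u) [CommRing D] [IsDomain D] [IsDiscreteValuationRing D] (g : Spec (CommRingCat.of D) ⟶ Y),
    ∃ a a' : ↥(pullback f g), a' ⤳ a ∧ pullback.snd f g a = closedPoint D ∧
      pullback.snd f g a' = (⊥ : PrimeSpectrum D)

theorem dvrPairs_of_univSubmersive {X Y : Scheme.{u}} (f : X ⟶ Y) (hf : SGA1.UnivSubmersive f) : DvrPairs f :=
  fun D _ _ _ g => (S14766.result D (pullback.snd f g)).1 (hf _ _ _ (IsPullback.of_hasPullback f g).flip)
    ((PrimeSpectrum.le_iff_specializes (⊥ : PrimeSpectrum D) (closedPoint D)).1 bot_le)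

theorem exists_equation {A₀ V B : Type u} [CommRing A₀] [CommRing V] [IsDomain V] [ValuationRing V] [CommRing B]
    [Algebra A₀ V] [Algebra A₀ B]
    (hno : ∀ q q' : PrimeSpectrum (V ⊗[A₀] B), q' ≤ q →
      PrimeSpectrum.comap Algebra.TensorProduct.includeLeftRingHom q = closedPoint V →
      PrimeSpectrum.comap Algebra.TensorProduct.includeLeftRingHom q' = ⊥ → False) :
    ∃ (s : V) (n : ℕ) (m : Fin n → V) (b : Fin n → B), s ≠ 0 ∧ (∀ i, m i ∈ maximalIdeal V) ∧
      s ⊗ₜ[A₀] (1 : B) = ∑ i, (s * m i) ⊗ₜ[A₀] b i := by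
  let R := V ⊗[A₀] B
  let ι : V →+* R := Algebra.TensorProduct.includeLeftRingHom
  let M : Submonoid R := (nonZeroDivisors V).map ι
  let T : Ideal R :=
    { carrier := {r | ∃ s : V, s ≠ 0 ∧ ι s * r = 0}
      zero_mem' := ⟨1, one_ne_zero, mul_zero _⟩
      add_mem' := by
        rintro r r' ⟨s, hs, e⟩ ⟨s', hs', e'⟩
        refine ⟨s * s', mul_ne_zero hs hs', ?_⟩
        rw [map_mul, mul_add, mul_assoc, mul_left_comm, e, mul_zero, zero_add, mul_assoc, e', mul_zero]
      smul_mem' := by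
        rintro c r ⟨s, hs, e⟩
        exact ⟨s, hs, by rw [smul_eq_mul, mul_left_comm, e, mul_zero]⟩ }
  have htop : (maximalIdeal V).map ι ⊔ T = ⊤ := by
    by_contra hne
    obtain ⟨q, hq, hle⟩ := Ideal.exists_le_maximal _ hne
    haveI := hq.isPrime
    have hqV : q.comap ι = maximalIdeal V :=
      ((IsLocalRing.maximalIdeal.isMaximal V).eq_of_le (Ideal.IsPrime.comap ι).ne_top
        (Ideal.map_le_iff_le_comap.1 (le_sup_left.trans hle))).symm
    let L := Localization.AtPrime q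
    have hd : Disjoint ((⊥ : Ideal L) : Set L) (((nonZeroDivisors V).map ((algebraMap R L).comp ι) : Submonoid L) : Set L) := by
      rw [Set.disjoint_left]
      rintro x hx ⟨s, hs, rfl⟩
      rw [SetLike.mem_coe, Submodule.mem_bot] at hx
      obtain ⟨⟨c, hc⟩, e⟩ := (IsLocalization.map_eq_zero_iff q.primeCompl L (ι s)).1 hx
      exact hc (hle (Ideal.mem_sup_right ⟨s, nonZeroDivisors.ne_zero hs, by rw [mul_comm]; exact e⟩))
    obtain ⟨P, hP, -, hPd⟩ := Ideal.exists_le_prime_disjoint (⊥ : Ideal L) _ hd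
    haveI := hP
    refine hno ⟨q, hq.isPrime⟩ ⟨P.comap (algebraMap R L), Ideal.IsPrime.comap _⟩ ?_ (PrimeSpectrum.ext hqV)
      (PrimeSpectrum.ext ?_)
    · show P.comap (algebraMap R L) ≤ q
      exact (Ideal.comap_mono (le_maximalIdeal hP.ne_top)).trans
        (IsLocalization.AtPrime.comap_maximalIdeal L q).le
    · refine eq_bot_iff.2 fun s hs => ?_
      by_contra hs0
      exact Set.disjoint_left.1 hPd hs ⟨s, mem_nonZeroDivisors_of_ne_zero hs0, rfl⟩
  obtain ⟨u, hu, t, ⟨s, hs, hst⟩, hsum⟩ := Submodule.mem_sup.1 (htop ▸ Submodule.mem_top : (1 : R) ∈ (maximalIdeal V).map ι ⊔ T)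
  have key : ∀ u ∈ (maximalIdeal V).map ι, ∀ r : R, ∃ (n : ℕ) (m : Fin n → V) (b : Fin n → B),
      (∀ i, m i ∈ maximalIdeal V) ∧ r * u = ∑ i, m i ⊗ₜ[A₀] b i := by
    intro u hu
    induction hu using Submodule.span_induction with
    | mem x hx =>
      obtain ⟨v, hv, rfl⟩ := hx
      intro r
      obtain ⟨n, w, b, e⟩ : ∃ (n : ℕ) (w : Fin n → V) (b : Fin n → B), r = ∑ i, w i ⊗ₜ[A₀] b i := by
        obtain ⟨S, hS⟩ := TensorProduct.exists_finset r
        refine ⟨S.card, fun i => (S.equivFin.symm i).1.1, fun i => (S.equivFin.symm i).1.2, hS.trans ?_⟩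
        rw [← Finset.sum_coe_sort S]
        exact (S.equivFin.symm.sum_comp fun x => x.1.1 ⊗ₜ[A₀] x.1.2).symm
      refine ⟨n, fun i => w i * v, b, fun i => Ideal.mul_mem_left _ _ hv, ?_⟩
      rw [e, Finset.sum_mul]
      exact Finset.sum_congr rfl fun i _ => by
        show (w i ⊗ₜ[A₀] b i) * (v ⊗ₜ[A₀] (1 : B)) = _
        rw [Algebra.TensorProduct.tmul_mul_tmul, mul_one]
    | zero => exact fun r => ⟨0, Fin.elim0, Fin.elim0, fun i => i.elim0, by simp⟩
    | add x y _ _ hx hy =>
      intro r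
      obtain ⟨n, m, b, hm, e⟩ := hx r
      obtain ⟨n', m', b', hm', e'⟩ := hy r
      refine ⟨n + n', Fin.append m m', Fin.append b b', fun i => ?_, ?_⟩
      · refine Fin.addCases (fun j => ?_) (fun j => ?_) i
        · simpa using hm j
        · simpa using hm' j
      · rw [mul_add, e, e', Fin.sum_univ_add]
        simp
    | smul c x _ hx =>
      intro r
      obtain ⟨n, m, b, hm, e⟩ := hx (r * c)
      exact ⟨n, m, b, hm, by rw [smul_eq_mul, ← mul_assoc, e]⟩
  obtain ⟨n, m, b, hm, e⟩ := key u hu 1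
  rw [one_mul] at e
  refine ⟨s, n, m, b, hs, hm, ?_⟩
  have h1 : ι s = ι s * u := by
    conv_lhs => rw [← mul_one (ι s), ← hsum, mul_add, hst, add_zero]
  rw [e, Finset.mul_sum] at h1
  refine h1.trans (Finset.sum_congr rfl fun i _ => ?_)
  show (s ⊗ₜ[A₀] (1 : B)) * (m i ⊗ₜ[A₀] b i) = _
  rw [Algebra.TensorProduct.tmul_mul_tmul, one_mul]

theorem univSSubtrusive_of_dvrPairs {X Y : Scheme.{u}} [IsLocallyNoetherian Y] (f : X ⟶ Y) [QuasiCompact f]
    (H : DvrPairs f) : Subtr.UnivSSubtrusive f := by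
  refine univSSubtrusive_of_pairs f fun V _ _ _ g => ?_
  by_cases hfield : maximalIdeal V = ⊥
  · let K := ResidueField V
    let i : Spec (CommRingCat.of K) ⟶ Spec (CommRingCat.of V) := Spec.map (CommRingCat.ofHom (residue V))
    let j : Spec (CommRingCat.of (PowerSeries K)) ⟶ Spec (CommRingCat.of K) :=
      Spec.map (CommRingCat.ofHom (PowerSeries.C (R := K)))
    obtain ⟨a, -, -, ha, -⟩ := H (PowerSeries K) (j ≫ i ≫ g)
    have hi : ∀ z, i z = closedPoint V := fun z => PrimeSpectrum.ext (by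
      show (z : PrimeSpectrum K).asIdeal.comap (residue V) = _
      rw [(Ideal.eq_bot_or_top (z : PrimeSpectrum K).asIdeal).resolve_right (z : PrimeSpectrum K).isPrime.ne_top,
        ← RingHom.ker_eq_comap_bot]
      exact IsLocalRing.ker_residue)
    have hfa : f (pullback.fst f (j ≫ i ≫ g) a) = g (closedPoint V) := by
      rw [← Scheme.Hom.comp_apply, pullback.condition, Scheme.Hom.comp_apply, ha, Scheme.Hom.comp_apply,
        Scheme.Hom.comp_apply, hi]
    obtain ⟨x, -, hx⟩ := Scheme.Pullback.exists_preimage_pullback (f := f) (g := g) _ (closedPoint V) hfa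
    exact ⟨x, x, specializes_rfl, hx, hx.trans (PrimeSpectrum.ext hfield)⟩
  by_contra hno
  push Not at hno
  obtain ⟨A, hA, hgA, -⟩ := exists_isAffineOpen_mem_and_subset (X := Y) (x := g (closedPoint V)) (U := ⊤) trivial
  have hgA' : Set.range g ⊆ A := by
    rintro _ ⟨z, rfl⟩
    exact ((PrimeSpectrum.le_iff_specializes (R := V) z (closedPoint V)).1
      (IsLocalRing.le_maximalIdeal (z : PrimeSpectrum V).isPrime.ne_top)).map g.continuous |>.mem_open A.2 hgA
  let A₀ := Γ(Y, A)
  haveI : IsNoetherianRing A₀ := IsLocallyNoetherian.component_noetherian ⟨A, hA⟩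
  obtain ⟨θ, hθ⟩ := Spec.map_surjective (IsOpenImmersion.lift hA.fromSpec g (by rwa [hA.range_fromSpec]))
  have hgθ : g = Spec.map θ ≫ hA.fromSpec := by rw [hθ, IsOpenImmersion.lift_fac]
  letI : Algebra A₀ V := θ.hom.toAlgebra
  -- finitely many affine opens over `A`
  have hcov : ∀ x : (f ⁻¹ᵁ A : X.Opens), ∃ W : X.Opens, IsAffineOpen W ∧ x.1 ∈ W ∧ W ≤ f ⁻¹ᵁ A := fun x =>
    exists_isAffineOpen_mem_and_subset x.2
  choose W hW hxW hWA using hcov
  obtain ⟨σ, hσ⟩ := (QuasiCompact.isCompact_preimage _ A.2 hA.isCompact : IsCompact (f ⁻¹ᵁ A : Set X)).elim_finite_subcover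
    (fun x => (W x : Set X)) (fun x => (W x).2) fun x hx => Set.mem_iUnion.2 ⟨⟨x, hx⟩, hxW ⟨x, hx⟩⟩
  have hdata : ∀ x : (f ⁻¹ᵁ A : X.Opens), ∃ C : Subalgebra A₀ V, C.FG ∧ ∀ C' : Subalgebra A₀ V, C ≤ C' →
      letI := (f.appLE A (W x) (hWA x)).hom.toAlgebra
      ∃ (s : C') (n : ℕ) (m : Fin n → C') (b : Fin n → Γ(X, W x)), s ≠ 0 ∧ (∀ i, (m i : V) ∈ maximalIdeal V) ∧
        s ⊗ₜ[A₀] (1 : Γ(X, W x)) = ∑ i, (s * m i) ⊗ₜ[A₀] b i := by
    intro x
    let B := Γ(X, W x)
    letI : Algebra A₀ B := (f.appLE A (W x) (hWA x)).hom.toAlgebra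
    let η : Spec (CommRingCat.of (V ⊗[A₀] B)) ⟶ pullback f g :=
      pullback.lift (Spec.map (CommRingCat.ofHom
          (Algebra.TensorProduct.includeRight (R := A₀) (A := V) (B := B)).toRingHom) ≫ (hW x).fromSpec)
        (Spec.map (CommRingCat.ofHom (Algebra.TensorProduct.includeLeftRingHom (R := A₀) (A := V) (B := B)))) (by
        rw [Category.assoc, ← IsAffineOpen.SpecMap_appLE_fromSpec f hA (hW x) (hWA x), hgθ, ← Spec.map_comp_assoc,
          ← Spec.map_comp_assoc]
        congr 2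
        ext r
        exact ((Algebra.TensorProduct.includeRight (R := A₀) (A := V) (B := B)).commutes r).trans
          (((Algebra.TensorProduct.includeLeft (R := A₀) (S := A₀) (A := V) (B := B)).commutes r).symm))
    obtain ⟨s, n, m, b, hs, hm, he⟩ := exists_equation (A₀ := A₀) (V := V) (B := B) fun q q' hqq h1 h0 =>
      hno (η q) (η q') (((PrimeSpectrum.le_iff_specializes q' q).1 hqq).map η.continuous)
        (by rw [← Scheme.Hom.comp_apply, pullback.lift_snd]; exact h1)
        (by rw [← Scheme.Hom.comp_apply, pullback.lift_snd]; exact h0)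
    classical
    let C₁ := Algebra.adjoin A₀ (((Finset.univ.image m) ∪ {s} : Finset V) : Set V)
    have hsC : s ∈ C₁ := Algebra.subset_adjoin (by simp)
    have hmC : ∀ i, m i ∈ C₁ := fun i => Algebra.subset_adjoin (by simp)
    obtain ⟨C₂, h12, hC₂, he₂⟩ := TensorProduct.Algebra.eq_of_fg_of_subtype_eq (R := A₀) (S := V) (N := B)
      (A := C₁) (Subalgebra.fg_adjoin_finset _) (t := (⟨s, hsC⟩ : C₁) ⊗ₜ[A₀] (1 : B))
      (t' := ∑ i, ((⟨s, hsC⟩ : C₁) * ⟨m i, hmC i⟩) ⊗ₜ[A₀] b i) (by simpa [map_sum] using he)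
    refine ⟨C₂, hC₂, fun C' hC' => ⟨⟨s, hC' (h12 hsC)⟩, n, fun i => ⟨m i, hC' (h12 (hmC i))⟩, b,
      fun h => hs (congrArg Subtype.val h), hm, ?_⟩⟩
    have := congrArg (LinearMap.rTensor B (Subalgebra.inclusion hC').toLinearMap) he₂
    simpa [map_sum] using this
  choose C hC hdata using hdata
  obtain ⟨t, ht, ht0⟩ := Submodule.exists_mem_ne_zero_of_ne_bot hfield
  classical
  let C' := Algebra.adjoin A₀ ({t} : Set V) ⊔ σ.sup C
  have hC' : C'.FG := (show (Algebra.adjoin A₀ ({t} : Set V)).FG from ⟨{t}, by simp⟩).sup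
    (Finset.sup_induction Subalgebra.fg_bot (fun _ h _ h' => h.sup h') fun x _ => hC x)
  haveI : IsNoetherianRing C' := isNoetherianRing_of_fg hC'
  let P : Ideal C' := (maximalIdeal V).comap C'.val.toRingHom
  haveI : P.IsPrime := Ideal.IsPrime.comap _
  have hP : (⊥ : Ideal C') < P := bot_lt_iff_ne_bot.2 fun h => ht0 (by
    have hm : (⟨t, (le_sup_left : _ ≤ C') (Algebra.self_mem_adjoin_singleton A₀ t)⟩ : C') ∈ P := ht
    rw [h, Submodule.mem_bot] at hm
    exact congrArg Subtype.val hm)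
  haveI : (⊥ : Ideal C').IsPrime := Ideal.bot_prime
  obtain ⟨D, _, _, _, φ, hφker, hφm⟩ := DomDVR.exists_dvr_specialization (⊥ : Ideal C') P hP
  let gD : Spec (CommRingCat.of D) ⟶ Y :=
    Spec.map (CommRingCat.ofHom (φ.comp (algebraMap A₀ C'))) ≫ hA.fromSpec
  obtain ⟨a, a', haa, ha, ha'⟩ := H D gD
  obtain ⟨V', _, _, _, μ, hμ⟩ := exists_lift_of_pair (pullback.snd f gD) haa ha' ha
  let a₁ := μ ≫ pullback.fst f gD
  obtain ⟨ψ, hψ⟩ := Spec.map_surjective (μ ≫ pullback.snd f gD)
  have hψinj : Function.Injective ψ.hom := by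
    obtain ⟨z, hz⟩ := (μ ≫ pullback.snd f gD).surjective (⊥ : PrimeSpectrum D)
    rw [← hψ] at hz
    rw [RingHom.injective_iff_ker_eq_bot, RingHom.ker_eq_comap_bot]
    exact le_bot_iff.1 ((Ideal.comap_mono bot_le).trans (le_of_eq (congrArg PrimeSpectrum.asIdeal hz :
      (z : PrimeSpectrum V').asIdeal.comap ψ.hom = ⊥)))
  have hψloc : ∀ c ∈ maximalIdeal D, ψ.hom c ∈ maximalIdeal V' := by
    obtain ⟨z, hz⟩ := (μ ≫ pullback.snd f gD).surjective (closedPoint D)
    rw [← hψ] at hz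
    intro c hc
    have hz' : (z : PrimeSpectrum V').asIdeal.comap ψ.hom = maximalIdeal D := congrArg PrimeSpectrum.asIdeal hz
    have : c ∈ (z : PrimeSpectrum V').asIdeal.comap ψ.hom := hz'.symm.le hc
    exact IsLocalRing.le_maximalIdeal (z : PrimeSpectrum V').isPrime.ne_top this
  have hza : f (a₁ (closedPoint V')) ∈ A := by
    rw [← Scheme.Hom.comp_apply, Category.assoc, pullback.condition, ← Category.assoc, Scheme.Hom.comp_apply]
    have : gD ((μ ≫ pullback.snd f gD) (closedPoint V')) ∈ Set.range hA.fromSpec := ⟨_, rfl⟩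
    rwa [hA.range_fromSpec] at this
  obtain ⟨x, hxσ, hxz⟩ := Set.mem_iUnion₂.1 (hσ hza)
  have ha₁ : Set.range a₁ ⊆ W x := by
    rintro _ ⟨z, rfl⟩
    exact ((PrimeSpectrum.le_iff_specializes (R := V') z (closedPoint V')).1
      (IsLocalRing.le_maximalIdeal (z : PrimeSpectrum V').isPrime.ne_top)).map a₁.continuous |>.mem_open (W x).2 hxz
  obtain ⟨β, hβ⟩ := Spec.map_surjective (IsOpenImmersion.lift (hW x).fromSpec a₁ (by rwa [(hW x).range_fromSpec]))
  letI : Algebra A₀ Γ(X, W x) := (f.appLE A (W x) (hWA x)).hom.toAlgebra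
  obtain ⟨s, n, m, b, hs, hm, he⟩ := hdata x C' ((Finset.le_sup hxσ).trans le_sup_right)
  letI : Algebra A₀ V' := ((ψ.hom.comp φ).comp (algebraMap A₀ C')).toAlgebra
  have hcomm : f.appLE A (W x) (hWA x) ≫ β = CommRingCat.ofHom ((ψ.hom.comp φ).comp (algebraMap A₀ C')) := by
    refine Spec.map_injective ((cancel_mono hA.fromSpec).1 ?_)
    rw [Spec.map_comp, Category.assoc, IsAffineOpen.SpecMap_appLE_fromSpec f hA (hW x) (hWA x), hβ, IsOpenImmersion.lift_fac_assoc,
      Category.assoc, pullback.condition, ← Category.assoc, ← hψ]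
    simp only [gD, ← Spec.map_comp_assoc]
    rfl
  let χ : C' ⊗[A₀] Γ(X, W x) →ₐ[A₀] V' :=
    Algebra.TensorProduct.lift ({ toRingHom := ψ.hom.comp φ, commutes' := fun r => rfl } : C' →ₐ[A₀] V')
      ({ toRingHom := β.hom, commutes' := fun r => congr($hcomm r) } : Γ(X, W x) →ₐ[A₀] V')
      fun _ _ => Commute.all _ _
  have e := congrArg χ he
  simp only [χ, map_sum, Algebra.TensorProduct.lift_tmul, AlgHom.coe_mk, RingHom.comp_apply, map_mul, map_one,
    mul_one] at e
  have hs' : ψ.hom (φ s) ≠ 0 := fun h => hs (by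
    have : φ s = 0 := hψinj (h.trans (map_zero _).symm)
    rw [← RingHom.mem_ker, hφker, Submodule.mem_bot] at this
    exact this)
  have hunit : IsUnit (1 - ∑ i, ψ.hom (φ (m i)) * β.hom (b i)) := by
    refine IsLocalRing.isUnit_one_sub_self_of_mem_nonunits _ (Ideal.sum_mem _ fun i _ => Ideal.mul_mem_right _ _ (hψloc _ ?_))
    have : m i ∈ (maximalIdeal D).comap φ := hφm.symm ▸ (show m i ∈ P from hm i)
    exact this
  refine hs' (hunit.mul_left_eq_zero.1 ?_)
  rw [mul_sub, mul_one, Finset.mul_sum]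
  simp only [← mul_assoc]
  exact sub_eq_zero.2 e

theorem univSubmersive_iff_univSSubtrusive {X Y : Scheme.{u}} [IsLocallyNoetherian Y] (f : X ⟶ Y) [QuasiCompact f] :
    SGA1.UnivSubmersive f ↔ Subtr.UnivSSubtrusive f :=
  ⟨fun h => univSSubtrusive_of_dvrPairs f (dvrPairs_of_univSubmersive f h), univSubmersive_of_univSSubtrusive f⟩

theorem tfae_univSubmersive {X Y : Scheme.{u}} [IsLocallyNoetherian Y]
    (f : X ⟶ Y) [LocallyOfFiniteType f] [QuasiCompact f] :
    List.TFAE [
      SGA1.UnivSubmersive f,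
      Subtr.UnivSSubtrusive f,
      ∀ (D : Type u) [CommRing D] [IsDomain D] [IsDiscreteValuationRing D] (g : Spec (CommRingCat.of D) ⟶ Y),
        ∃ (D' : Type u) (_ : CommRing D') (_ : IsDomain D') (_ : IsDiscreteValuationRing D')
          (a : Spec (CommRingCat.of D') ⟶ X) (b : Spec (CommRingCat.of D') ⟶ Spec (CommRingCat.of D)),
          Surjective b ∧ a ≫ f = b ≫ g] := by
  tfae_have 1 ↔ 2 := univSubmersive_iff_univSSubtrusive f
  tfae_have 2 → 3 := by
    intro h D _ _ _ g
    let p := pullback.snd f g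
    obtain ⟨a, a', haa, ha, ha'⟩ := dvrPairs_of_univSubmersive f ((univSubmersive_of_univSSubtrusive f) h) D g
    haveI : IsLocallyNoetherian (pullback f g) := LocallyOfFiniteType.isLocallyNoetherian p
    obtain ⟨Q, hQ, haQ, -⟩ := exists_isAffineOpen_mem_and_subset (X := pullback f g) (x := a) (U := ⊤) trivial
    haveI : IsNoetherianRing Γ(pullback f g, Q) := IsLocallyNoetherian.component_noetherian ⟨Q, hQ⟩
    obtain ⟨q, hq⟩ : a ∈ Set.range hQ.fromSpec := by rw [hQ.range_fromSpec]; exact haQ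
    obtain ⟨q', hq'⟩ : a' ∈ Set.range hQ.fromSpec := by rw [hQ.range_fromSpec]; exact haa.mem_open Q.2 haQ
    have hne : a' ≠ a := fun h => by
      rw [h, ha] at ha'
      exact IsDiscreteValuationRing.not_a_field D (congrArg PrimeSpectrum.asIdeal ha')
    have hlt : (q' : PrimeSpectrum Γ(pullback f g, Q)).asIdeal < (q : PrimeSpectrum Γ(pullback f g, Q)).asIdeal := by
      refine lt_of_le_of_ne ?_ fun h => hne ?_
      · refine (PrimeSpectrum.le_iff_specializes _ _).2 (hQ.fromSpec.isOpenEmbedding.isInducing.specializes_iff.1 ?_)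
        rw [hq, hq']; exact haa
      · rw [← hq, ← hq']
        exact congrArg hQ.fromSpec (PrimeSpectrum.ext h)
    obtain ⟨B, _, _, _, φ, hker, hm⟩ := DomDVR.exists_dvr_specialization _ _ hlt
    let μ : Spec (CommRingCat.of B) ⟶ pullback f g := Spec.map (CommRingCat.ofHom φ) ≫ hQ.fromSpec
    have h0 : (μ ≫ p) (⊥ : PrimeSpectrum B) = (⊥ : PrimeSpectrum D) := by
      rw [Scheme.Hom.comp_apply, ← ha', ← hq']
      exact congrArg (fun z => p (hQ.fromSpec z)) (PrimeSpectrum.ext hker)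
    have h1 : (μ ≫ p) (closedPoint B) = closedPoint D := by
      rw [Scheme.Hom.comp_apply, ← ha, ← hq]
      exact congrArg (fun z => p (hQ.fromSpec z)) (PrimeSpectrum.ext hm)
    refine ⟨B, inferInstance, inferInstance, inferInstance, μ ≫ pullback.fst f g, μ ≫ p, ⟨fun z => ?_⟩,
      by simp only [μ, p, Category.assoc, pullback.condition]⟩
    by_cases hz : (z : PrimeSpectrum D).asIdeal = ⊥
    · exact ⟨_, h0.trans (PrimeSpectrum.ext hz).symm⟩
    · exact ⟨_, h1.trans (PrimeSpectrum.ext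
        (IsLocalRing.eq_maximalIdeal ((z : PrimeSpectrum D).isPrime.isMaximal hz))).symm⟩
  tfae_have 3 → 2 := by
    intro h
    refine univSSubtrusive_of_dvrPairs f fun D _ _ _ g => ?_
    obtain ⟨D', _, _, _, a, b, hb, e⟩ := h D g
    let w := pullback.lift a b e
    have key : ∀ z, pullback.snd f g (w z) = b z := fun z => by
      rw [← Scheme.Hom.comp_apply, pullback.lift_snd]
    obtain ⟨z, hz⟩ := b.surjective (closedPoint D)
    obtain ⟨z', hz'⟩ := b.surjective (⊥ : PrimeSpectrum D)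
    rcases prime_total (V := D') z' z with hle | hle
    · exact ⟨w z, w z', ((PrimeSpectrum.le_iff_specializes (R := D') _ _).1 hle).map w.continuous,
        (key z).trans hz, (key z').trans hz'⟩
    · exfalso
      have h' := ((PrimeSpectrum.le_iff_specializes (R := D') _ _).1 hle).map b.continuous
      rw [hz, hz'] at h'
      exact IsDiscreteValuationRing.not_a_field D
        (le_bot_iff.1 ((PrimeSpectrum.le_iff_specializes (closedPoint D) (⊥ : PrimeSpectrum D)).2 h'))
  tfae_finish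

end Groth.Agent.SubtrVal
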