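import Groth.Agent.SubtrVal.ValRing
import Mathlib.AlgebraicGeometry.Morphisms.UniversallyOpen
import Mathlib.AlgebraicGeometry.IdealSheaf.Subscheme
import Mathlib.AlgebraicGeometry.Morphisms.ClosedImmersion
import Mathlib.AlgebraicGeometry.Properties
import Mathlib.RingTheory.Flat.TorsionFree
/-!
Pair lifting over a valuation ring.
-/

set_option autoImplicit false
set_option backward.isDefEq.respectTransparency false
set_option backward.isDefEq.respectTransparency.types false

universe u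

open CategoryTheory CategoryTheory.Limits AlgebraicGeometry IsLocalRing TopologicalSpace

namespace Groth.Agent.SubtrVal

variable {V : Type u} [CommRing V] [IsDomain V] [ValuationRing V]

theorem flat_of_generic {T : Scheme.{u}} [IsReduced T] (p : T ⟶ Spec (CommRingCat.of V))
    (h : ∀ t : T, ∃ t' : T, t' ⤳ t ∧ p t' = (⊥ : PrimeSpectrum V)) : Flat p := by
  refine IsZariskiLocalAtSource.of_openCover (P := @Flat) T.affineCover fun i => ?_
  obtain ⟨φ, hφ⟩ := Spec.map_surjective (T.affineCover.f i ≫ p)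
  rw [← hφ, HasRingHomProperty.Spec_iff (P := @Flat)]
  haveI : IsReduced (T.affineCover.X i) := isReduced_of_isOpenImmersion (T.affineCover.f i)
  haveI : _root_.IsReduced _ := (affine_isReduced_iff _).1 ‹IsReduced (T.affineCover.X i)›
  letI := φ.hom.toAlgebra
  show Module.Flat V _
  rw [Module.Flat.flat_iff_torsion_eq_bot_of_isBezout, ← Submodule.isTorsionFree_iff_torsion_eq_bot,
    Module.isTorsionFree_iff_smul_eq_zero]
  intro v r hvr
  by_contra! hc
  refine hc.2 (IsNilpotent.eq_zero ?_)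
  rw [nilpotent_iff_mem_prime]
  intro z hz
  obtain ⟨t', ht', ht0⟩ := h (T.affineCover.f i ⟨z, hz⟩)
  obtain ⟨w, rfl⟩ := ht'.mem_open (T.affineCover.f i).isOpenEmbedding.isOpen_range ⟨_, rfl⟩
  have hwz := (T.affineCover.f i).isOpenEmbedding.isInducing.specializes_iff.1 ht'
  have hw : Spec.map φ w = (⊥ : PrimeSpectrum V) := by rw [hφ]; exact ht0
  have hv : φ.hom v ∉ w.asIdeal := fun hm => hc.1 (by
    have : v ∈ (Spec.map φ w).asIdeal := hm
    rw [hw] at this
    exact Ideal.mem_bot.1 this)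
  have hmul : φ.hom v * r ∈ w.asIdeal := by
    have e : φ.hom v * r = 0 := hvr
    rw [e]; exact w.asIdeal.zero_mem
  exact (PrimeSpectrum.le_iff_specializes w ⟨z, hz⟩).2 hwz ((w.isPrime.mem_or_mem hmul).resolve_left hv)

/-- A point in the closure of the generic fibre is a specialization of a point of the generic fibre. -/
theorem exists_generization {X : Scheme.{u}} (f : X ⟶ Spec (CommRingCat.of V)) (x : X)
    (hx : x ∈ closure (f ⁻¹' {(⊥ : PrimeSpectrum V)})) : ∃ x' : X, x' ⤳ x ∧ f x' = (⊥ : PrimeSpectrum V) := by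
  obtain ⟨R, j, _, q, hq⟩ : ∃ (R : CommRingCat.{u}) (j : Spec R ⟶ X) (_ : IsOpenImmersion j) (q : Spec R), j q = x :=
    ⟨_, X.affineCover.f (X.affineCover.idx x), inferInstance, X.affineCover.covers x⟩
  obtain ⟨φ, hφ⟩ := Spec.map_surjective (j ≫ f)
  have hq' : q ∈ closure (Spec.map φ ⁻¹' {(⊥ : PrimeSpectrum V)}) := by
    have h1 : q ∈ j ⁻¹' closure (f ⁻¹' {(⊥ : PrimeSpectrum V)}) := by
      rw [Set.mem_preimage, hq]; exact hx
    rw [j.isOpenEmbedding.isOpenMap.preimage_closure_eq_closure_preimage j.continuous] at h1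
    rw [hφ]
    exact h1
  let M : Submonoid R := (nonZeroDivisors V).map φ.hom ⊔ q.asIdeal.primeCompl
  have hd : Disjoint ((⊥ : Ideal R) : Set R) (M : Set R) := by
    rw [Set.disjoint_left]
    intro r hr hrM
    obtain ⟨a, ⟨s, hs, rfl⟩, c, hc, rfl⟩ := Submonoid.mem_sup.1 hrM
    obtain ⟨w, hwc, hw⟩ := mem_closure_iff.1 hq' _ (PrimeSpectrum.basicOpen c).isOpen hc
    have hmem : φ.hom s * c ∈ (w : PrimeSpectrum _).asIdeal := by
      rw [Ideal.mem_bot.1 hr]; exact Ideal.zero_mem _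
    rcases w.isPrime.mem_or_mem hmem with h | h
    · have : s ∈ (Spec.map φ w).asIdeal := h
      rw [show Spec.map φ w = (⊥ : PrimeSpectrum V) from hw] at this
      exact nonZeroDivisors.ne_zero hs (Ideal.mem_bot.1 this)
    · exact hwc h
  obtain ⟨P, hP, -, hPd⟩ := Ideal.exists_le_prime_disjoint (⊥ : Ideal R) M hd
  have hle : P ≤ q.asIdeal := fun r hr => by
    by_contra hrq
    exact Set.disjoint_left.1 hPd hr (Submonoid.mem_sup_right hrq)
  have hP0 : Spec.map φ ⟨P, hP⟩ = (⊥ : PrimeSpectrum V) := PrimeSpectrum.ext <| eq_bot_iff.2 fun s hs => by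
    by_contra hs0
    exact Set.disjoint_left.1 hPd hs
      (Submonoid.mem_sup_left ⟨s, mem_nonZeroDivisors_of_ne_zero hs0, rfl⟩)
  refine ⟨j ⟨P, hP⟩, ?_, ?_⟩
  · rw [← hq]
    exact ((PrimeSpectrum.le_iff_specializes ⟨P, hP⟩ q).1 hle).map j.continuous
  · rw [← Scheme.Hom.comp_apply, ← hφ]
    exact hP0

theorem tfae_overVal {X : Scheme.{u}} (f : X ⟶ Spec (CommRingCat.of V)) :
    List.TFAE [
      Subtr.UnivSSubtrusive f,
      Subtr.IsSSubtrusive f,
      ∀ y : Spec (CommRingCat.of V), ∃ x : X,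
        x ∈ closure (f ⁻¹' {(⟨⊥, Ideal.isPrime_bot⟩ : PrimeSpectrum V)}) ∧ f x = y,
      ∃ x x' : X, x' ⤳ x ∧ f x = IsLocalRing.closedPoint V ∧
        f x' = (⟨⊥, Ideal.isPrime_bot⟩ : PrimeSpectrum V),
      ∃ (W : Type u) (_ : CommRing W) (_ : IsDomain W) (_ : ValuationRing W)
        (g : Spec (CommRingCat.of W) ⟶ X), Surjective (g ≫ f),
      ∃ (Z : Scheme.{u}) (i : Z ⟶ X), IsClosedImmersion i ∧ Flat (i ≫ f) ∧ Surjective (i ≫ f)] := by
  tfae_have 1 → 2 := fun h => h (𝟙 X) (𝟙 _) f (IsPullback.id_horiz f).flip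
  tfae_have 2 → 3 := by
    intro h y
    obtain ⟨x, x', hx, e, e'⟩ := h ((PrimeSpectrum.le_iff_specializes (⊥ : PrimeSpectrum V) y).1 bot_le)
    exact ⟨x, closure_mono (s := {x'}) (t := f ⁻¹' {(⊥ : PrimeSpectrum V)}) (Set.singleton_subset_iff.2 e') hx.mem_closure, e⟩
  tfae_have 3 → 4 := by
    intro h
    obtain ⟨x, hx, e⟩ := h (closedPoint V)
    obtain ⟨x', hx', e'⟩ := exists_generization f x hx
    exact ⟨x, x', hx', e, e'⟩
  tfae_have 4 → 5 := fun ⟨_, _, hx, e, e'⟩ => exists_lift_of_pair f hx e' e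
  tfae_have 5 → 6 := by
    rintro ⟨W, _, _, _, g, hg⟩
    let C : Closeds X := ⟨closure {g (⊥ : PrimeSpectrum W)}, isClosed_closure⟩
    let i := (Scheme.IdealSheafData.vanishingIdeal C).subschemeι
    have hri : Set.range i = closure {g (⊥ : PrimeSpectrum W)} := by
      rw [Scheme.IdealSheafData.range_subschemeι, Scheme.IdealSheafData.coe_support_vanishingIdeal]
      rfl
    have hgen : ∀ w, g (⊥ : PrimeSpectrum W) ⤳ g w := fun w =>
      ((PrimeSpectrum.le_iff_specializes (⊥ : PrimeSpectrum W) w).1 bot_le).map g.continuous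
    have hbot : f (g (⊥ : PrimeSpectrum W)) = (⊥ : PrimeSpectrum V) := by
      obtain ⟨w, hw⟩ := (g ≫ f).surjective (⊥ : PrimeSpectrum V)
      have h1 := (hgen w).map f.continuous
      rw [Scheme.Hom.comp_apply] at hw
      rw [hw] at h1
      exact (le_bot_iff (α := PrimeSpectrum V)).1 ((PrimeSpectrum.le_iff_specializes (R := V) _ _).2 h1)
    obtain ⟨z', hz'⟩ : g (⊥ : PrimeSpectrum W) ∈ Set.range i := hri ▸ subset_closure (Set.mem_singleton _)
    haveI : IsReduced (Scheme.IdealSheafData.vanishingIdeal C).subscheme := by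
      let I := Scheme.IdealSheafData.vanishingIdeal C
      haveI : ∀ U : X.affineOpens, IsReduced (I.subschemeCover.openCover.X U) := fun U => by
        haveI : _root_.IsReduced (Γ(X, U) ⧸ I.ideal U) := by
          rw [← Ideal.isRadical_iff_quotient_reduced, Scheme.IdealSheafData.vanishingIdeal_ideal]
          exact PrimeSpectrum.isRadical_vanishingIdeal _
        exact (affine_isReduced_iff _).2 this
      exact AlgebraicGeometry.IsReduced.of_openCover _ I.subschemeCover.openCover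
    refine ⟨_, i, inferInstance, flat_of_generic _ fun t => ⟨z', ?_, ?_⟩, ⟨fun y => ?_⟩⟩
    · refine i.isEmbedding.isInducing.specializes_iff.1 ?_
      rw [hz', specializes_iff_mem_closure, ← hri]
      exact ⟨t, rfl⟩
    · rw [Scheme.Hom.comp_apply, hz', hbot]
    · obtain ⟨w, rfl⟩ := (g ≫ f).surjective y
      obtain ⟨t, ht⟩ : g w ∈ Set.range i := hri ▸ (hgen w).mem_closure
      exact ⟨t, by rw [Scheme.Hom.comp_apply, ht, Scheme.Hom.comp_apply]⟩
  tfae_have 6 → 1 := by
    rintro ⟨Z, i, _, _, _⟩ X' Y' i₁ i₂ f' sq y y' hy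
    obtain ⟨z, rfl⟩ := (pullback.snd (i ≫ f) i₂).surjective y
    obtain ⟨z', hz', rfl⟩ := Flat.generalizingMap (pullback.snd (i ≫ f) i₂) hy
    obtain ⟨w, hw₁, hw₂⟩ := sq.exists_lift (pullback.snd (i ≫ f) i₂) (pullback.fst (i ≫ f) i₂ ≫ i)
      (by rw [Category.assoc, pullback.condition])
    exact ⟨w z, w z', (hz' : z' ⤳ z).map w.continuous,
      by rw [← Scheme.Hom.comp_apply, hw₁], by rw [← Scheme.Hom.comp_apply, hw₁]⟩
  tfae_finish

end Groth.Agent.SubtrVal
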