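import Groth.Prelude.Def_W4c2submetdescSubtr
import Mathlib.AlgebraicGeometry.Stalk
import Mathlib.AlgebraicGeometry.PullbackCarrier
import Mathlib.AlgebraicGeometry.Morphisms.Preimmersion
import Mathlib.AlgebraicGeometry.ResidueField
import Mathlib.RingTheory.Valuation.LocalSubring
import Mathlib.RingTheory.Valuation.ValuationRing
/-!
Valuation rings realizing specializations and finite chains of points.
-/

set_option autoImplicit false
set_option backward.isDefEq.respectTransparency false
set_option backward.isDefEq.respectTransparency.types false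

universe u

open CategoryTheory CategoryTheory.Limits AlgebraicGeometry IsLocalRing

namespace Groth.Agent.SubtrVal

theorem prime_total {V : Type u} [CommRing V] [IsDomain V] [ValuationRing V] (p q : PrimeSpectrum V) : p ≤ q ∨ q ≤ p := by
  by_contra h
  simp only [not_or, ← PrimeSpectrum.asIdeal_le_asIdeal, SetLike.not_le_iff_exists] at h
  obtain ⟨⟨a, ha, ha'⟩, b, hb, hb'⟩ := h
  rcases ValuationRing.dvd_total a b with h | h
  · exact hb' (p.asIdeal.mem_of_dvd h ha)
  · exact ha' (q.asIdeal.mem_of_dvd h hb)

/-- A local injective map out of a valuation ring is surjective on spectra. -/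
theorem comap_surjective {V W : Type u} [CommRing V] [IsDomain V] [ValuationRing V] [CommRing W] [IsDomain W]
    (φ : V →+* W) (hφ : Function.Injective φ) [IsLocalHom φ] :
    Function.Surjective (PrimeSpectrum.comap φ) := by
  intro p
  refine (PrimeSpectrum.mem_range_comap_iff (f := φ)).2 (le_antisymm ?_ Ideal.le_comap_map)
  have hmap : ∀ z ∈ p.asIdeal.map φ, ∃ a ∈ p.asIdeal, φ a ∣ z := by
    intro z hz
    induction hz using Submodule.span_induction with
    | mem z hz => obtain ⟨a, ha, rfl⟩ := hz; exact ⟨a, ha, dvd_rfl⟩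
    | zero => exact ⟨0, p.asIdeal.zero_mem, dvd_zero _⟩
    | add z w _ _ hz hw =>
      obtain ⟨a, ha, hz⟩ := hz
      obtain ⟨b, hb, hw⟩ := hw
      rcases ValuationRing.dvd_total a b with h | h
      · exact ⟨a, ha, dvd_add hz ((map_dvd φ h).trans hw)⟩
      · exact ⟨b, hb, dvd_add ((map_dvd φ h).trans hz) hw⟩
    | smul r z _ hz =>
      obtain ⟨a, ha, hz⟩ := hz
      exact ⟨a, ha, hz.trans (dvd_mul_left _ _)⟩
  intro x hx
  obtain ⟨a, ha, c, hc⟩ := hmap _ hx
  rcases ValuationRing.dvd_total a x with h | h
  · exact p.asIdeal.mem_of_dvd h ha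
  obtain ⟨d, rfl⟩ := h
  rcases eq_or_ne x 0 with rfl | hx0
  · exact p.asIdeal.zero_mem
  have hu : IsUnit (φ d) := IsUnit.of_mul_eq_one c
    (mul_left_cancel₀ ((map_ne_zero_iff φ hφ).2 hx0) (by rw [← mul_assoc, ← map_mul, ← hc, mul_one]))
  exact ((Ideal.mul_unit_mem_iff_mem _ (isUnit_of_map_unit φ d hu))).1 ha

/-- A specialization is realized by a valuation ring. -/
theorem exists_valuationRing {Z : Scheme.{u}} {y' y : ↥Z} (hs : y' ⤳ y) :
    ∃ (V : Type u) (_ : CommRing V) (_ : IsDomain V) (_ : ValuationRing V) (l : Spec (CommRingCat.of V) ⟶ Z),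
      l (⊥ : PrimeSpectrum V) = y' ∧ l (closedPoint V) = y := by
  let φ : Z.presheaf.stalk y ⟶ Z.residueField y' := Z.presheaf.stalkSpecializes hs ≫ Z.residue y'
  obtain ⟨A, hA, hA_local⟩ := exists_factor_valuationRing φ.hom
  let a : Z.presheaf.stalk y ⟶ CommRingCat.of A := CommRingCat.ofHom (φ.hom.codRestrict _ hA)
  refine ⟨A, inferInstance, inferInstance, inferInstance, Spec.map a ≫ Z.fromSpecStalk y, ?_, ?_⟩
  · have w : Z.fromSpecResidueField y' =
        Spec.map (CommRingCat.ofHom (algebraMap A (Z.residueField y'))) ≫ Spec.map a ≫ Z.fromSpecStalk y := by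
      rw [Scheme.fromSpecResidueField, ← Scheme.SpecMap_stalkSpecializes_fromSpecStalk hs]
      simp_rw [← Spec.map_comp_assoc]
      rfl
    have h1 := Z.fromSpecResidueField_apply y' (closedPoint (Z.residueField y'))
    rw [w, Scheme.Hom.comp_apply] at h1
    refine Eq.trans (congrArg _ (PrimeSpectrum.ext ?_)) h1
    exact (Ideal.comap_bot_of_injective (algebraMap A (Z.residueField y')) Subtype.val_injective).symm.trans
      (congrArg (Ideal.comap (algebraMap A (Z.residueField y'))) (IsLocalRing.maximalIdeal_eq_bot).symm)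
  · have : Spec.map a (closedPoint A) = closedPoint (Z.presheaf.stalk y) :=
      IsLocalRing.comap_closedPoint (S := A) (φ.hom.codRestrict A.toSubring hA)
    rw [Scheme.Hom.comp_apply]
    exact (congrArg (Z.fromSpecStalk y) this).trans Z.fromSpecStalk_closedPoint

/-- A pair over the generic and closed point is lifted by a valuation ring surjecting on spectra. -/
theorem exists_lift_of_pair {T : Scheme.{u}} {V : Type u} [CommRing V] [IsDomain V] [ValuationRing V]
    (p : T ⟶ Spec (CommRingCat.of V)) {a' a : ↥T} (h : a' ⤳ a)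
    (ha' : p a' = (⊥ : PrimeSpectrum V)) (ha : p a = closedPoint V) :
    ∃ (V' : Type u) (_ : CommRing V') (_ : IsDomain V') (_ : ValuationRing V')
      (m : Spec (CommRingCat.of V') ⟶ T), Surjective (m ≫ p) := by
  obtain ⟨V', _, _, _, m, hm', hm⟩ := exists_valuationRing h
  refine ⟨V', inferInstance, inferInstance, inferInstance, m, ?_⟩
  obtain ⟨φ, hφ⟩ := Spec.map_surjective (m ≫ p)
  have h0 : PrimeSpectrum.comap φ.hom ⊥ = ⊥ := by
    show Spec.map φ (⊥ : PrimeSpectrum V') = (⊥ : PrimeSpectrum V)
    rw [hφ, Scheme.Hom.comp_apply, hm', ha']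
  have h1 : PrimeSpectrum.comap φ.hom (closedPoint V') = closedPoint V := by
    show Spec.map φ (closedPoint V') = closedPoint V
    rw [hφ, Scheme.Hom.comp_apply, hm, ha]
  have hinj : Function.Injective φ.hom := by
    rw [RingHom.injective_iff_ker_eq_bot, RingHom.ker_eq_comap_bot]
    exact congrArg PrimeSpectrum.asIdeal h0
  haveI : IsLocalHom φ.hom := ((local_hom_TFAE φ.hom).out 0 4).2 (congrArg PrimeSpectrum.asIdeal h1)
  rw [← hφ]
  exact ⟨comap_surjective φ.hom hinj⟩

theorem univSSubtrusive_iff_valuationRing {X Y : Scheme.{u}} (f : X ⟶ Y) :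
    Subtr.UnivSSubtrusive f ↔
      ∀ (V : Type u) [CommRing V] [IsDomain V] [ValuationRing V] (g : Spec (CommRingCat.of V) ⟶ Y),
        Subtr.IsSSubtrusive (pullback.snd f g) := by
  refine ⟨fun h V _ _ _ g => h _ _ _ (IsPullback.of_hasPullback f g).flip, fun h X' Y' i₁ i₂ f' sq y y' hy => ?_⟩
  obtain ⟨V, _, _, _, l, hl', hl⟩ := exists_valuationRing hy
  obtain ⟨a, a', ha, e, e'⟩ := h V (l ≫ i₂) ((PrimeSpectrum.le_iff_specializes ⊥ (closedPoint V)).1 bot_le)
  obtain ⟨w, hw₁, hw₂⟩ := sq.exists_lift (pullback.snd f (l ≫ i₂) ≫ l) (pullback.fst f (l ≫ i₂))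
    (by rw [Category.assoc, pullback.condition])
  refine ⟨w a, w a', ha.map w.continuous, ?_, ?_⟩
  · rw [← Scheme.Hom.comp_apply, hw₁, Scheme.Hom.comp_apply, e, hl]
  · rw [← Scheme.Hom.comp_apply, hw₁, Scheme.Hom.comp_apply, e', hl']

theorem univSSubtrusive_iff_lift {X Y : Scheme.{u}} (f : X ⟶ Y) :
    Subtr.UnivSSubtrusive f ↔
      ∀ (V : Type u) [CommRing V] [IsDomain V] [ValuationRing V] (g : Spec (CommRingCat.of V) ⟶ Y),
        ∃ (V' : Type u) (_ : CommRing V') (_ : IsDomain V') (_ : ValuationRing V')
          (a : Spec (CommRingCat.of V') ⟶ X) (b : Spec (CommRingCat.of V') ⟶ Spec (CommRingCat.of V)),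
          Surjective b ∧ a ≫ f = b ≫ g := by
  rw [univSSubtrusive_iff_valuationRing]
  constructor
  · intro h V _ _ _ g
    obtain ⟨a, a', ha, e, e'⟩ := h V g ((PrimeSpectrum.le_iff_specializes ⊥ (closedPoint V)).1 bot_le)
    obtain ⟨V', _, _, _, m, hm⟩ := exists_lift_of_pair (pullback.snd f g) ha e' e
    exact ⟨V', inferInstance, inferInstance, inferInstance, m ≫ pullback.fst f g, m ≫ pullback.snd f g, hm,
      by rw [Category.assoc, Category.assoc, pullback.condition]⟩
  · intro h V _ _ _ g z z' hz
    obtain ⟨V', _, _, _, a, b, hb, e⟩ := h V g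
    let w := pullback.lift a b e
    obtain ⟨q, rfl⟩ := b.surjective z
    obtain ⟨q', rfl⟩ := b.surjective z'
    have key : ∀ r, pullback.snd f g (w r) = b r := fun r => by
      rw [← Scheme.Hom.comp_apply, pullback.lift_snd]
    rcases prime_total (V := V') q' q with hq | hq
    · exact ⟨w q, w q', ((PrimeSpectrum.le_iff_specializes (R := V') _ _).1 hq).map w.continuous, key _, key _⟩
    · have : b q' = b q := le_antisymm (α := PrimeSpectrum V) ((PrimeSpectrum.le_iff_specializes _ _).2 hz)
        ((PrimeSpectrum.le_iff_specializes _ _).2 (((PrimeSpectrum.le_iff_specializes (R := V') _ _).1 hq).map b.continuous))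
      exact ⟨w q, w q, specializes_rfl, key _, by rw [key, this]⟩

/-- Composite valuation subring. -/
def composite {K : Type u} [Field K] (O : ValuationSubring K) (W : ValuationSubring (ResidueField O)) :
    ValuationSubring K where
  toSubring := (W.toSubring.comap (residue O)).map O.subtype
  mem_or_inv_mem' x := by
    rcases O.mem_or_inv_mem x with hx | hx
    · by_cases h1 : residue O ⟨x, hx⟩ ∈ W
      · exact Or.inl ⟨⟨x, hx⟩, h1, rfl⟩
      · have hne : residue O ⟨x, hx⟩ ≠ 0 := fun h => h1 (h ▸ W.zero_mem)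
        have hu : IsUnit (⟨x, hx⟩ : O) := (residue_ne_zero_iff_isUnit _).1 hne
        obtain ⟨v, hv⟩ := hu.exists_left_inv
        refine Or.inr ⟨v, ?_, ?_⟩
        · have e : residue O v = (residue O ⟨x, hx⟩)⁻¹ :=
            eq_inv_of_mul_eq_one_left (by rw [← map_mul, hv, map_one])
          show residue O v ∈ W
          rw [e]
          exact (W.mem_or_inv_mem _).resolve_left h1
        · exact eq_inv_of_mul_eq_one_left (congrArg Subtype.val hv)
    · by_cases h1 : residue O ⟨x⁻¹, hx⟩ ∈ W
      · exact Or.inr ⟨⟨x⁻¹, hx⟩, h1, rfl⟩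
      · have hne : residue O ⟨x⁻¹, hx⟩ ≠ 0 := fun h => h1 (h ▸ W.zero_mem)
        have hu : IsUnit (⟨x⁻¹, hx⟩ : O) := (residue_ne_zero_iff_isUnit _).1 hne
        obtain ⟨v, hv⟩ := hu.exists_left_inv
        refine Or.inl ⟨v, ?_, ?_⟩
        · have e : residue O v = (residue O ⟨x⁻¹, hx⟩)⁻¹ :=
            eq_inv_of_mul_eq_one_left (by rw [← map_mul, hv, map_one])
          show residue O v ∈ W
          rw [e]
          exact (W.mem_or_inv_mem _).resolve_left h1
        · exact (eq_inv_of_mul_eq_one_left (congrArg Subtype.val hv)).trans (inv_inv x)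

/-- A finite chain of primes is the trace of a chain in a valuation subring of the residue field of its bottom. -/
theorem exists_valuationSubring_chain (n : ℕ) : ∀ {A : Type u} [CommRing A] (p : Fin (n + 1) → PrimeSpectrum A),
    Monotone p → ∃ (V : ValuationSubring (p 0).asIdeal.ResidueField)
      (hV : ∀ a, algebraMap A (p 0).asIdeal.ResidueField a ∈ V) (q : Fin (n + 1) → PrimeSpectrum V),
      Monotone q ∧ ∀ i, PrimeSpectrum.comap ((algebraMap A _).codRestrict V.toSubring hV) (q i) = p i := by
  induction n with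
  | zero =>
    intro A _ p _
    refine ⟨⊤, fun _ => trivial, fun _ => ⊥, fun _ _ _ => le_rfl, fun i => ?_⟩
    obtain rfl : i = 0 := Fin.fin_one_eq_zero i
    refine PrimeSpectrum.ext ?_
    ext a
    exact Subtype.ext_iff.trans Ideal.algebraMap_residueField_eq_zero
  | succ n ih =>
    intro A _ p hp
    obtain ⟨V₁, hV₁, q₁, hq₁, e₁⟩ := ih (p ∘ Fin.succ) (hp.comp Fin.strictMono_succ.monotone)
    let K := (p 0).asIdeal.ResidueField
    let P₁ := (p 1).asIdeal
    -- a valuation ring of the generic residue field centred at the next prime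
    let f : Localization.AtPrime P₁ →+* K :=
      IsLocalization.lift (M := P₁.primeCompl) (g := algebraMap A K) fun s => isUnit_iff_ne_zero.2 fun h =>
        s.2 (hp (Fin.zero_le 1) (Ideal.algebraMap_residueField_eq_zero.1 h))
    obtain ⟨O, hO, hloc⟩ := exists_factor_valuationRing f
    let g : Localization.AtPrime P₁ →+* O := f.codRestrict O.toSubring hO
    haveI : IsLocalHom g := hloc
    haveI : IsLocalHom ((residue O).comp g) := RingHom.isLocalHom_comp _ _
    let φ : P₁.ResidueField →+* ResidueField O := ResidueField.lift ((residue O).comp g)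
    obtain ⟨W, hW⟩ := (LocalSubring.range (φ.comp V₁.subtype)).exists_le_valuationSubring
    let ψ : V₁ →+* W := (φ.comp V₁.subtype).codRestrict W.toSubring fun x => hW.1 ⟨x, rfl⟩
    haveI : IsLocalHom ψ :=
      @RingHom.isLocalHom_comp _ _ _ _ _ _ _ _ hW.2
        (.of_surjective _ (φ.comp V₁.subtype).rangeRestrict_surjective)
    have hsurj := comap_surjective ψ (fun x y h => Subtype.ext (φ.injective (congrArg Subtype.val h)))
    have hfA : ∀ a, f (algebraMap A _ a) = algebraMap A K a := fun a => IsLocalization.lift_eq _ a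
    have hres : ∀ a, residue O ⟨algebraMap A K a, hfA a ▸ hO _⟩ = φ (algebraMap A P₁.ResidueField a) := fun a =>
      congrArg (residue O) (Subtype.ext (hfA a).symm : (⟨algebraMap A K a, _⟩ : O) = g (algebraMap A _ a))
    have hU : ∀ a, algebraMap A K a ∈ composite O W := fun a =>
      ⟨⟨algebraMap A K a, hfA a ▸ hO _⟩, by
        show residue O _ ∈ W
        rw [hres]
        exact (ψ ⟨_, hV₁ a⟩).2, rfl⟩
    let ρ : composite O W →+* W :=
      ((residue O).comp (Subring.inclusion (show (composite O W).toSubring ≤ O.toSubring from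
        fun x hx => by obtain ⟨y, -, rfl⟩ := hx; exact y.2))).codRestrict W.toSubring fun x => by
          obtain ⟨y, hy, e⟩ := x.2
          exact (congrArg (residue O) (Subtype.ext e : y = ⟨x.1, _⟩)) ▸ hy
    have hρ : ρ.comp ((algebraMap A K).codRestrict (composite O W).toSubring hU) =
        ψ.comp ((algebraMap A P₁.ResidueField).codRestrict V₁.toSubring hV₁) :=
      RingHom.ext fun a => Subtype.ext (hres a)
    classical
    let w : Fin (n + 1) → PrimeSpectrum W := fun i => Function.surjInv hsurj (q₁ i)
    have hw : ∀ i, PrimeSpectrum.comap ψ (w i) = q₁ i := fun i => Function.surjInv_eq hsurj _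
    have hwm : Monotone w := fun i j hij => by
      rcases eq_or_ne (q₁ i) (q₁ j) with he | he
      · exact le_of_eq (congrArg (Function.surjInv hsurj) he)
      · refine (prime_total (w i) (w j)).resolve_right fun h => he (le_antisymm (hq₁ hij) ?_)
        rw [← hw i, ← hw j]
        exact Ideal.comap_mono h
    refine ⟨composite O W, hU, Fin.cases ⊥ fun i => PrimeSpectrum.comap ρ (w i), ?_, ?_⟩
    · intro i j hij
      induction i using Fin.cases with
      | zero => exact bot_le
      | succ i =>
        induction j using Fin.cases with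
        | zero => exact absurd hij (by simp [Fin.le_def])
        | succ j => exact Ideal.comap_mono (hwm (Fin.succ_le_succ_iff.1 hij))
    · intro i
      induction i using Fin.cases with
      | zero =>
        refine PrimeSpectrum.ext ?_
        ext a
        exact Subtype.ext_iff.trans Ideal.algebraMap_residueField_eq_zero
      | succ i =>
        refine Eq.trans ?_ (e₁ i)
        simp only [Fin.cases_succ]
        rw [← hw i, ← PrimeSpectrum.comap_comp_apply, ← PrimeSpectrum.comap_comp_apply, hρ]
        rfl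

/-- Finite chains lift along morphisms with universal pair lifting. -/
theorem exists_chain_lift {X Y : Scheme.{u}} (f : X ⟶ Y) (hf : Subtr.UnivSSubtrusive f) (n : ℕ)
    (y : Fin (n + 1) → Y) (hy : ∀ i j : Fin (n + 1), i ≤ j → y i ⤳ y j) :
    ∃ x : Fin (n + 1) → X, (∀ i j : Fin (n + 1), i ≤ j → x i ⤳ x j) ∧ ∀ i, f (x i) = y i := by
  let z := y (Fin.last n)
  have hz : ∀ i, ∃ p : PrimeSpectrum (Y.presheaf.stalk z), Y.fromSpecStalk z p = y i := fun i => by
    have h : y i ∈ Set.range (Y.fromSpecStalk z) := by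
      rw [Scheme.range_fromSpecStalk]
      exact hy i _ (Fin.le_last i)
    exact h
  choose p hp using hz
  have hpm : Monotone p := fun i j hij => by
    rw [PrimeSpectrum.le_iff_specializes]
    refine (Y.fromSpecStalk z).isEmbedding.isInducing.specializes_iff.1 ?_
    rw [hp, hp]
    exact hy i j hij
  obtain ⟨V, hV, q, hq, e⟩ := exists_valuationSubring_chain n p hpm
  let l : Spec (CommRingCat.of V) ⟶ Y :=
    Spec.map (CommRingCat.ofHom ((algebraMap _ _).codRestrict V.toSubring hV)) ≫ Y.fromSpecStalk z
  obtain ⟨V', _, _, _, a, b, hb, hab⟩ := (univSSubtrusive_iff_lift f).1 hf V l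
  let s : ↥(Spec (CommRingCat.of V)) → ↥(Spec (CommRingCat.of V')) := Function.surjInv b.surjective
  refine ⟨fun i => a (s (q i)), fun i j hij => ?_, fun i => ?_⟩
  · refine Specializes.map ?_ a.continuous
    rcases eq_or_ne (q i) (q j) with he | he
    · rw [he]
    · refine (PrimeSpectrum.le_iff_specializes _ _).1 ((prime_total (V := V') _ _).resolve_right
        fun h => he (le_antisymm (hq hij) ?_))
      have h' := ((PrimeSpectrum.le_iff_specializes _ _).1 h).map b.continuous
      rw [Function.surjInv_eq b.surjective, Function.surjInv_eq b.surjective] at h'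
      exact (PrimeSpectrum.le_iff_specializes _ _).2 h'
  · rw [← Scheme.Hom.comp_apply, hab, Scheme.Hom.comp_apply, Function.surjInv_eq b.surjective]
    exact (congrArg (Y.fromSpecStalk z) (e i)).trans (hp i)

end Groth.Agent.SubtrVal
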