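import Groth.Agent.SubtrVal.Submersive
import Mathlib.AlgebraicGeometry.AffineSpace
/-!
Universal pair lifting is detected on affine spaces.
-/

set_option autoImplicit false
set_option backward.isDefEq.respectTransparency false
set_option backward.isDefEq.respectTransparency.types false

universe u

open CategoryTheory CategoryTheory.Limits AlgebraicGeometry IsLocalRing TensorProduct Topology MvPolynomial

namespace Groth.Agent.SubtrVal

theorem univSSubtrusive_of_affineSpace {X Y : Scheme.{u}} (f : X ⟶ Y) [QuasiCompact f]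
    (H : ∀ n : ℕ, 0 < n → Subtr.IsSSubtrusive (pullback.snd f (AffineSpace (ULift.{u} (Fin n)) Y ↘ Y))) :
    Subtr.UnivSSubtrusive f := by
  refine univSSubtrusive_of_pairs f fun V _ _ _ g => ?_
  by_contra hno
  push Not at hno
  obtain ⟨A, hA, hgA, -⟩ := exists_isAffineOpen_mem_and_subset (X := Y) (x := g (closedPoint V)) (U := ⊤) trivial
  have hgA' : Set.range g ⊆ A := by
    rintro _ ⟨z, rfl⟩
    exact ((PrimeSpectrum.le_iff_specializes (R := V) z (closedPoint V)).1
      (IsLocalRing.le_maximalIdeal (z : PrimeSpectrum V).isPrime.ne_top)).map g.continuous |>.mem_open A.2 hgA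
  let A₀ := Γ(Y, A)
  obtain ⟨θ, hθ⟩ := Spec.map_surjective (IsOpenImmersion.lift hA.fromSpec g (by rwa [hA.range_fromSpec]))
  have hgθ : g = Spec.map θ ≫ hA.fromSpec := by rw [hθ, IsOpenImmersion.lift_fac]
  letI : Algebra A₀ V := θ.hom.toAlgebra
  -- finitely many affine opens over `A`
  have hcov : ∀ x : (f ⁻¹ᵁ A : X.Opens), ∃ W : X.Opens, IsAffineOpen W ∧ x.1 ∈ W ∧ W ≤ f ⁻¹ᵁ A := fun x =>
    exists_isAffineOpen_mem_and_subset x.2
  choose W hW hxW hWA using hcov
  obtain ⟨σ, hσ⟩ := (QuasiCompact.isCompact_preimage _ A.2 hA.isCompact : IsCompact (f ⁻¹ᵁ A : Set X)).elim_finite_subcover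
    (fun x => (W x : Set X)) (fun x => (W x).2) fun x hx => Set.mem_iUnion.2 ⟨⟨x, hx⟩, hxW ⟨x, hx⟩⟩
  have hdata : ∀ x : (f ⁻¹ᵁ A : X.Opens), ∃ C : Subalgebra A₀ V, C.FG ∧ ∀ C' : Subalgebra A₀ V, C ≤ C' →
      letI := (f.appLE A (W x) (hWA x)).hom.toAlgebra
      ∃ (s : C') (n : ℕ) (m : Fin n → C') (b : Fin n → Γ(X, W x)), s ≠ 0 ∧ (∀ i, (m i : V) ∈ maximalIdeal V) ∧
        s ⊗ₜ[A₀] (1 : Γ(X, W x)) = ∑ i, (s * m i) ⊗ₜ[A₀] b i := by
    intro x
    let B := Γ(X, W x)
    letI : Algebra A₀ B := (f.appLE A (W x) (hWA x)).hom.toAlgebra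
    let η : Spec (CommRingCat.of (V ⊗[A₀] B)) ⟶ pullback f g :=
      pullback.lift (Spec.map (CommRingCat.ofHom
          (Algebra.TensorProduct.includeRight (R := A₀) (A := V) (B := B)).toRingHom) ≫ (hW x).fromSpec)
        (Spec.map (CommRingCat.ofHom (Algebra.TensorProduct.includeLeftRingHom (R := A₀) (A := V) (B := B)))) (by
        rw [Category.assoc, ← IsAffineOpen.SpecMap_appLE_fromSpec f hA (hW x) (hWA x), hgθ, ← Spec.map_comp_assoc,
          ← Spec.map_comp_assoc]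
        congr 2
        ext r
        exact ((Algebra.TensorProduct.includeRight (R := A₀) (A := V) (B := B)).commutes r).trans
          (((Algebra.TensorProduct.includeLeft (R := A₀) (S := A₀) (A := V) (B := B)).commutes r).symm))
    obtain ⟨s, n, m, b, hs, hm, he⟩ := exists_equation (A₀ := A₀) (V := V) (B := B) fun q q' hqq h1 h0 =>
      hno (η q) (η q') (((PrimeSpectrum.le_iff_specializes q' q).1 hqq).map η.continuous)
        (by rw [← Scheme.Hom.comp_apply, pullback.lift_snd]; exact h1)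
        (by rw [← Scheme.Hom.comp_apply, pullback.lift_snd]; exact h0)
    classical
    let C₁ := Algebra.adjoin A₀ (((Finset.univ.image m) ∪ {s} : Finset V) : Set V)
    have hsC : s ∈ C₁ := Algebra.subset_adjoin (by simp)
    have hmC : ∀ i, m i ∈ C₁ := fun i => Algebra.subset_adjoin (by simp)
    obtain ⟨C₂, h12, hC₂, he₂⟩ := TensorProduct.Algebra.eq_of_fg_of_subtype_eq (R := A₀) (S := V) (N := B)
      (A := C₁) (Subalgebra.fg_adjoin_finset _) (t := (⟨s, hsC⟩ : C₁) ⊗ₜ[A₀] (1 : B))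
      (t' := ∑ i, ((⟨s, hsC⟩ : C₁) * ⟨m i, hmC i⟩) ⊗ₜ[A₀] b i) (by simpa [map_sum] using he)
    refine ⟨C₂, hC₂, fun C' hC' => ⟨⟨s, hC' (h12 hsC)⟩, n, fun i => ⟨m i, hC' (h12 (hmC i))⟩, b,
      fun h => hs (congrArg Subtype.val h), hm, ?_⟩⟩
    have := congrArg (LinearMap.rTensor B (Subalgebra.inclusion hC').toLinearMap) he₂
    simpa [map_sum] using this
  choose C hC hdata using hdata
  classical
  obtain ⟨T, hT⟩ := Finset.sup_induction (p := fun D : Subalgebra A₀ V => D.FG) Subalgebra.fg_bot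
    (fun _ h _ h' => h.sup h') (fun x (_ : x ∈ σ) => hC x)
  let N := T.card + 1
  let v : ULift.{u} (Fin N) → V := fun i => if h : (i.down : ℕ) < T.card then (T.equivFin.symm ⟨i.down, h⟩).1 else 0
  let π : MvPolynomial (ULift.{u} (Fin N)) A₀ →ₐ[A₀] V := aeval v
  let C' := π.range
  have hle : σ.sup C ≤ C' := by
    rw [← hT, Algebra.adjoin_le_iff]
    intro c hc
    refine ⟨MvPolynomial.X ⟨(T.equivFin ⟨c, hc⟩).castSucc⟩, ?_⟩
    show π _ = _
    simp [π, v]
  let j : Spec (CommRingCat.of (MvPolynomial (ULift.{u} (Fin N)) A₀)) ⟶ AffineSpace (ULift.{u} (Fin N)) Y :=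
    (AffineSpace.SpecIso (ULift.{u} (Fin N)) A₀).inv ≫ AffineSpace.map (ULift.{u} (Fin N)) hA.fromSpec
  haveI : IsOpenImmersion (AffineSpace.map (ULift.{u} (Fin N)) hA.fromSpec) :=
    MorphismProperty.of_isPullback (P := @IsOpenImmersion) (AffineSpace.isPullback_map hA.fromSpec).flip inferInstance
  have hj : j ≫ (AffineSpace (ULift.{u} (Fin N)) Y ↘ Y) =
      Spec.map (CommRingCat.ofHom MvPolynomial.C) ≫ hA.fromSpec := by
    simp only [j, Category.assoc, AffineSpace.map_over, AffineSpace.SpecIso_inv_over_assoc]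
  let l : Spec (CommRingCat.of V) ⟶ AffineSpace (ULift.{u} (Fin N)) Y :=
    Spec.map (CommRingCat.ofHom π.toRingHom) ≫ j
  obtain ⟨x₁, x₂, hx, e₁, e₂⟩ := H N (Nat.succ_pos _)
    (((PrimeSpectrum.le_iff_specializes (⊥ : PrimeSpectrum V) (closedPoint V)).1 bot_le).map l.continuous)
  obtain ⟨V', _, _, _, μ, hμ', hμ⟩ := exists_valuationRing hx
  let h := μ ≫ pullback.snd f (AffineSpace (ULift.{u} (Fin N)) Y ↘ Y)
  let a₁ := μ ≫ pullback.fst f (AffineSpace (ULift.{u} (Fin N)) Y ↘ Y)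
  have hh₁ : h (closedPoint V') = l (closedPoint V) := by rw [Scheme.Hom.comp_apply, hμ, e₁]
  have hh₂ : h (⊥ : PrimeSpectrum V') = l (⊥ : PrimeSpectrum V) := by rw [Scheme.Hom.comp_apply, hμ', e₂]
  have hrange : Set.range h ⊆ Set.range j := by
    rintro _ ⟨z, rfl⟩
    refine (((PrimeSpectrum.le_iff_specializes (R := V') z (closedPoint V')).1
      (IsLocalRing.le_maximalIdeal (z : PrimeSpectrum V').isPrime.ne_top)).map h.continuous).mem_open
        j.isOpenEmbedding.isOpen_range ?_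
    rw [hh₁]
    exact ⟨_, rfl⟩
  obtain ⟨ψ, hψ⟩ := Spec.map_surjective (IsOpenImmersion.lift j h hrange)
  have hfac : Spec.map ψ ≫ j = h := by rw [hψ, IsOpenImmersion.lift_fac]
  have hpt : ∀ z w, h z = l w → (Spec.map ψ z : PrimeSpectrum (MvPolynomial (ULift.{u} (Fin N)) A₀)).asIdeal =
      (w : PrimeSpectrum V).asIdeal.comap π.toRingHom := fun z w e => by
    rw [← hfac, Scheme.Hom.comp_apply] at e
    have := j.isOpenEmbedding.injective e
    exact congrArg PrimeSpectrum.asIdeal this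
  have hker : RingHom.ker ψ.hom = RingHom.ker π.toRingHom := by
    rw [RingHom.ker_eq_comap_bot, RingHom.ker_eq_comap_bot]
    exact hpt _ _ hh₂
  have hloc : ∀ r, π r ∈ maximalIdeal V → ψ.hom r ∈ maximalIdeal V' := fun r hr =>
    (hpt _ _ hh₁).symm.le (show r ∈ (maximalIdeal V).comap π.toRingHom from hr)
  have hza : f (a₁ (closedPoint V')) ∈ A := by
    have : (h ≫ (AffineSpace (ULift.{u} (Fin N)) Y ↘ Y)) (closedPoint V') ∈ Set.range hA.fromSpec := by
      rw [← hfac, Category.assoc, hj]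
      exact ⟨_, rfl⟩
    rw [hA.range_fromSpec, Category.assoc, ← pullback.condition, ← Category.assoc] at this
    exact this
  obtain ⟨x, hxσ, hxz⟩ := Set.mem_iUnion₂.1 (hσ hza)
  have ha₁ : Set.range a₁ ⊆ W x := by
    rintro _ ⟨z, rfl⟩
    exact ((PrimeSpectrum.le_iff_specializes (R := V') z (closedPoint V')).1
      (IsLocalRing.le_maximalIdeal (z : PrimeSpectrum V').isPrime.ne_top)).map a₁.continuous |>.mem_open (W x).2 hxz
  obtain ⟨β, hβ⟩ := Spec.map_surjective (IsOpenImmersion.lift (hW x).fromSpec a₁ (by rwa [(hW x).range_fromSpec]))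
  letI : Algebra A₀ Γ(X, W x) := (f.appLE A (W x) (hWA x)).hom.toAlgebra
  obtain ⟨s, n, m, b, hs, hm, he⟩ := hdata x C' ((Finset.le_sup hxσ).trans hle)
  letI : Algebra A₀ V' := (ψ.hom.comp MvPolynomial.C).toAlgebra
  let p : MvPolynomial (ULift.{u} (Fin N)) A₀ →+* C' := π.rangeRestrict.toRingHom
  have hp : Function.Surjective p := π.rangeRestrict_surjective
  have hpker : RingHom.ker p ≤ RingHom.ker ψ.hom := fun r hr => hker.symm.le (congrArg Subtype.val hr)
  let φ : C' →+* V' := p.liftOfSurjective hp ⟨ψ.hom, hpker⟩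
  have hφ : ∀ r, φ (p r) = ψ.hom r := fun r =>
    RingHom.congr_fun (RingHom.liftOfRightInverse_comp p _ (Function.rightInverse_surjInv hp) ⟨ψ.hom, hpker⟩) r
  have hφA : ∀ r, φ (algebraMap A₀ C' r) = ψ.hom (MvPolynomial.C r) := fun r => by
    rw [← hφ]
    exact congrArg φ (Subtype.ext (π.commutes r).symm)
  have hcomm : f.appLE A (W x) (hWA x) ≫ β = CommRingCat.ofHom (ψ.hom.comp MvPolynomial.C) := by
    refine Spec.map_injective ((cancel_mono hA.fromSpec).1 ?_)
    rw [Spec.map_comp, Category.assoc, IsAffineOpen.SpecMap_appLE_fromSpec f hA (hW x) (hWA x), hβ,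
      IsOpenImmersion.lift_fac_assoc, Category.assoc, pullback.condition, ← Category.assoc]
    show h ≫ _ = _
    rw [← hfac, Category.assoc, hj, ← Spec.map_comp_assoc]
    rfl
  let χ : C' ⊗[A₀] Γ(X, W x) →ₐ[A₀] V' :=
    Algebra.TensorProduct.lift ({ toRingHom := φ, commutes' := hφA } : C' →ₐ[A₀] V')
      ({ toRingHom := β.hom, commutes' := fun r => congr($hcomm r) } : Γ(X, W x) →ₐ[A₀] V')
      fun _ _ => Commute.all _ _
  have e := congrArg χ he
  simp only [χ, map_sum, Algebra.TensorProduct.lift_tmul, AlgHom.coe_mk, map_mul, map_one, mul_one] at e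
  have hs' : φ s ≠ 0 := fun h0 => hs (by
    obtain ⟨r, rfl⟩ := hp s
    rw [hφ, ← RingHom.mem_ker, hker] at h0
    exact Subtype.ext h0)
  have hunit : IsUnit (1 - ∑ i, φ (m i) * β.hom (b i)) := by
    refine IsLocalRing.isUnit_one_sub_self_of_mem_nonunits _
      ((IsLocalRing.mem_maximalIdeal _).1 (Ideal.sum_mem _ fun i _ => Ideal.mul_mem_right _ _ ?_))
    obtain ⟨r, hr⟩ := hp (m i)
    rw [← hr, hφ]
    refine hloc r ?_
    show (p r : V) ∈ _
    rw [hr]
    exact hm i
  refine hs' (hunit.mul_left_eq_zero.1 ?_)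
  rw [mul_sub, mul_one, Finset.mul_sum]
  simp only [← mul_assoc]
  exact sub_eq_zero.2 e

theorem univSSubtrusive_iff_affineSpace {X Y : Scheme.{u}} (f : X ⟶ Y) [QuasiCompact f] :
    Subtr.UnivSSubtrusive f ↔
      ∀ n : ℕ, 0 < n → Subtr.IsSSubtrusive (pullback.snd f (AffineSpace (ULift.{u} (Fin n)) Y ↘ Y)) :=
  ⟨fun h _ _ => h _ _ _ (IsPullback.of_hasPullback f _).flip, univSSubtrusive_of_affineSpace f⟩

end Groth.Agent.SubtrVal
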