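import Groth.Agent.SubtrVal.ValRing
import Groth.Agent.DomLib.ProConsClosure
import Groth.Agent.ProConsLib.Scheme
/-!
Descent of locally closed retrocompact sets along universally subtrusive quasi-compact morphisms.
-/

set_option autoImplicit false
set_option backward.isDefEq.respectTransparency false
set_option backward.isDefEq.respectTransparency.types false

universe u

open Topology TopologicalSpace Set CategoryTheory AlgebraicGeometry

namespace Groth.Agent.SubtrVal

open Groth.Agent.SpectralLib Groth.Agent.ProConsLib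

variable {X : Scheme.{u}}

theorem isRetrocompact_of_isProConstructible {E : Set X} (hE : ProCons.IsProConstructible E) :
    IsRetrocompact E := by
  intro U hU hUo
  have key : ∀ x : U, ∃ A : X.Opens, IsAffineOpen A ∧ x.1 ∈ A ∧ (A : Set X) ⊆ U := fun x => by
    obtain ⟨A, hA, hxA, hAU⟩ := exists_isAffineOpen_mem_and_subset (U := ⟨U, hUo⟩) (x := x.1) x.2
    exact ⟨A, hA, hxA, hAU⟩
  choose A hA hxA hAU using key
  obtain ⟨σ, hσ⟩ := hU.elim_finite_subcover (fun x => (A x : Set X)) (fun x => (A x).2)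
    fun x hx => mem_iUnion.2 ⟨⟨x, hx⟩, hxA ⟨x, hx⟩⟩
  have e : E ∩ U = ⋃ x ∈ σ, (Subtype.val '' ((Subtype.val : ↥(A x : Set X) → X) ⁻¹' E)) := by
    simp only [Subtype.image_preimage_coe]
    ext y
    simp only [mem_iUnion, mem_inter_iff]
    constructor
    · rintro ⟨hyE, hyU⟩
      obtain ⟨x, hx, hyx⟩ := mem_iUnion₂.1 (hσ hyU)
      exact ⟨x, hx, hyx, hyE⟩
    · rintro ⟨x, -, hyx, hyE⟩
      exact ⟨hyE, hAU x hyx⟩
  rw [e]
  refine σ.finite_toSet.isCompact_biUnion fun x _ => IsCompact.image ?_ continuous_subtype_val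
  haveI := spectralSpace_of_isAffineOpen (hA x)
  exact isCompact_of_isClosed_C (isClosed_trace hE (hA x))

theorem isProConstructible_of_isLocallyClosed {E : Set X} (hl : IsLocallyClosed E) (hr : IsRetrocompact E) :
    ProCons.IsProConstructible E := by
  obtain ⟨U, Z, hU, hZ, rfl⟩ := hl
  rw [isProConstructible_iff]
  intro A hA
  haveI := spectralSpace_of_isAffineOpen hA
  have hcomp : IsCompact ((Subtype.val : ↥(A : Set X) → X) ⁻¹' (U ∩ Z)) := by
    rw [IsInducing.subtypeVal.isCompact_iff, Subtype.image_preimage_coe, Set.inter_comm]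
    exact hr hA.isCompact A.2
  obtain ⟨W, ⟨hWc, hWo⟩, hW, hWU⟩ : ∃ W : Set ↥(A : Set X), (IsCompact W ∧ IsOpen W) ∧
      (Subtype.val : ↥(A : Set X) → X) ⁻¹' (U ∩ Z) ⊆ W ∧ W ⊆ Subtype.val ⁻¹' U := by
    have key : ∀ x : ((Subtype.val : ↥(A : Set X) → X) ⁻¹' (U ∩ Z) : Set _), ∃ W : Set ↥(A : Set X),
        (IsOpen W ∧ IsCompact W) ∧ x.1 ∈ W ∧ W ⊆ Subtype.val ⁻¹' U := fun x =>
      PrespectralSpace.isTopologicalBasis.exists_subset_of_mem_open (show x.1 ∈ Subtype.val ⁻¹' U from x.2.1)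
        (hU.preimage continuous_subtype_val)
    choose W hW hxW hWU using key
    obtain ⟨σ, hσ⟩ := hcomp.elim_finite_subcover W (fun x => (hW x).1) fun x hx => mem_iUnion.2 ⟨⟨x, hx⟩, hxW ⟨x, hx⟩⟩
    exact ⟨⋃ x ∈ σ, W x, ⟨σ.finite_toSet.isCompact_biUnion fun x _ => (hW x).2, isOpen_biUnion fun x _ => (hW x).1⟩,
      hσ, iUnion₂_subset fun x _ => hWU x⟩
  have e : (Subtype.val : ↥(A : Set X) → X) ⁻¹' (U ∩ Z) = W ∩ Subtype.val ⁻¹' Z :=
    Subset.antisymm (fun x hx => ⟨hW hx, hx.2⟩) fun x hx => ⟨hWU hx.1, hx.2⟩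
  rw [e]
  have h1 := isClosed_C_of_compactOpen hWo hWc
  have h2 := isClosed_C_of_isClosed (hZ.preimage (continuous_subtype_val (p := fun x => x ∈ (A : Set X))))
  exact @IsClosed.inter ↥(A : Set X) _ _ (constructibleTopology ↥(A : Set X)) h1 h2

theorem isLocallyClosed_and_isRetrocompact_iff_preimage {S' S : Scheme.{u}} (f : S' ⟶ S)
    [QuasiCompact f] (hf : Subtr.UnivSSubtrusive f) (E : Set S) :
    (IsLocallyClosed E ∧ IsRetrocompact E) ↔ (IsLocallyClosed (f ⁻¹' E) ∧ IsRetrocompact (f ⁻¹' E)) := by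
  constructor
  · rintro ⟨hl, hr⟩
    exact ⟨hl.preimage f.continuous,
      isRetrocompact_of_isProConstructible (isProConstructible_preimage f (isProConstructible_of_isLocallyClosed hl hr))⟩
  rintro ⟨hl, hr⟩
  have hpre : Subtr.IsSSubtrusive f := hf _ _ _ (IsPullback.id_horiz f).flip
  have hsurj : Function.Surjective f := fun y =>
    let ⟨x, _, _, hx, _⟩ := hpre (specializes_refl y)
    ⟨x, hx⟩
  have hpE : ProCons.IsProConstructible E := by
    rw [← image_preimage_eq E hsurj]
    exact isProConstructible_image f (isProConstructible_of_isLocallyClosed hl hr)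
  refine ⟨?_, isRetrocompact_of_isProConstructible hpE⟩
  let D₀ := closure (f ⁻¹' E) \ f ⁻¹' E
  have hD₀ : IsClosed D₀ := isOpen_compl_iff.1 (hl.isOpen_coborder)
  have himg : f '' D₀ = closure E \ E := by
    apply Subset.antisymm
    · rintro _ ⟨x, ⟨hx, hxE⟩, rfl⟩
      exact ⟨closure_mono (image_preimage_subset f E) (image_closure_subset_closure_image f.continuous ⟨x, hx, rfl⟩), hxE⟩
    · rintro y ⟨hy, hyE⟩
      obtain ⟨z, hz, hzy⟩ := DomLib.exists_specializes_of_mem_closure hpE hy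
      obtain ⟨x, x', hx, rfl, rfl⟩ := hpre hzy
      exact ⟨x, ⟨hx.mem_closed isClosed_closure (subset_closure hz), hyE⟩, rfl⟩
  have hpD : ProCons.IsProConstructible (closure E \ E) := by
    rw [← himg]
    refine isProConstructible_image f ((isProConstructible_iff _).2 fun A hA => ?_)
    haveI := spectralSpace_of_isAffineOpen hA
    exact isClosed_C_of_isClosed (hD₀.preimage continuous_subtype_val)
  refine ((isLocallyClosed_tfae E).out 0 1).2 (isOpen_compl_iff.2 (closure_subset_iff_isClosed.1 ?_))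
  intro y hy
  obtain ⟨z, ⟨hz, hzE⟩, hzy⟩ := DomLib.exists_specializes_of_mem_closure hpD hy
  have hyc : y ∈ closure E := hzy.mem_closed isClosed_closure hz
  refine ⟨hyc, fun hyE => hzE ?_⟩
  -- the points in between two points of a locally closed set lie in it
  obtain ⟨e, he, hez⟩ := DomLib.exists_specializes_of_mem_closure hpE hz
  obtain ⟨x, hx, hfx⟩ := exists_chain_lift f hf 2 ![e, z, y] (by
    intro i j hij
    fin_cases i <;> fin_cases j <;>
      first | exact specializes_rfl | exact hez | exact hzy | exact hez.trans hzy | exact absurd hij (by decide))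
  obtain ⟨U, Z, hU, hZ, hUZ⟩ := hl
  have h0 : x 0 ∈ U ∩ Z := by rw [← hUZ]; show f (x 0) ∈ E; rw [hfx]; exact he
  have h2 : x 2 ∈ U ∩ Z := by rw [← hUZ]; show f (x 2) ∈ E; rw [hfx]; exact hyE
  have h1 : x 1 ∈ f ⁻¹' E := by
    rw [hUZ]
    exact ⟨(hx 1 2 (by decide)).mem_open hU h2.1, (hx 0 1 (by decide)).mem_closed hZ h0.2⟩
  have h1' : f (x 1) ∈ E := h1
  rwa [hfx] at h1'

end Groth.Agent.SubtrVal
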