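import Groth.Agent.SubtrVal.LocClosed
/-!
Descent of locally closed sets along universally subtrusive morphisms of finite presentation.
-/

set_option autoImplicit false
set_option backward.isDefEq.respectTransparency false
set_option backward.isDefEq.respectTransparency.types false

universe u

open Topology TopologicalSpace Set CategoryTheory AlgebraicGeometry

namespace Groth.Agent.SubtrVal

open Groth.Agent.SpectralLib Groth.Agent.ProConsLib

/-- A pro-constructible set is locally closed if its preimage is. -/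
theorem isLocallyClosed_of_preimage {S' S : Scheme.{u}} (f : S' ⟶ S) [QuasiCompact f]
    (hf : Subtr.UnivSSubtrusive f) {E : Set S} (hpE : ProCons.IsProConstructible E)
    (hl : IsLocallyClosed (f ⁻¹' E)) : IsLocallyClosed E := by
  have hpre : Subtr.IsSSubtrusive f := hf _ _ _ (IsPullback.id_horiz f).flip
  let D₀ := closure (f ⁻¹' E) \ f ⁻¹' E
  have hD₀ : IsClosed D₀ := isOpen_compl_iff.1 (hl.isOpen_coborder)
  have himg : f '' D₀ = closure E \ E := by
    apply Subset.antisymm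
    · rintro _ ⟨x, ⟨hx, hxE⟩, rfl⟩
      exact ⟨closure_mono (image_preimage_subset f E) (image_closure_subset_closure_image f.continuous ⟨x, hx, rfl⟩), hxE⟩
    · rintro y ⟨hy, hyE⟩
      obtain ⟨z, hz, hzy⟩ := DomLib.exists_specializes_of_mem_closure hpE hy
      obtain ⟨x, x', hx, rfl, rfl⟩ := hpre hzy
      exact ⟨x, ⟨hx.mem_closed isClosed_closure (subset_closure hz), hyE⟩, rfl⟩
  have hpD : ProCons.IsProConstructible (closure E \ E) := by
    rw [← himg]
    refine isProConstructible_image f ((isProConstructible_iff _).2 fun A hA => ?_)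
    haveI := spectralSpace_of_isAffineOpen hA
    exact isClosed_C_of_isClosed (hD₀.preimage continuous_subtype_val)
  refine ((isLocallyClosed_tfae E).out 0 1).2 (isOpen_compl_iff.2 (closure_subset_iff_isClosed.1 ?_))
  intro y hy
  obtain ⟨z, ⟨hz, hzE⟩, hzy⟩ := DomLib.exists_specializes_of_mem_closure hpD hy
  have hyc : y ∈ closure E := hzy.mem_closed isClosed_closure hz
  refine ⟨hyc, fun hyE => hzE ?_⟩
  -- the points in between two points of a locally closed set lie in it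
  obtain ⟨e, he, hez⟩ := DomLib.exists_specializes_of_mem_closure hpE hz
  obtain ⟨x, hx, hfx⟩ := exists_chain_lift f hf 2 ![e, z, y] (by
    intro i j hij
    fin_cases i <;> fin_cases j <;>
      first | exact specializes_rfl | exact hez | exact hzy | exact hez.trans hzy | exact absurd hij (by decide))
  obtain ⟨U, Z, hU, hZ, hUZ⟩ := hl
  have h0 : x 0 ∈ U ∩ Z := by rw [← hUZ]; show f (x 0) ∈ E; rw [hfx]; exact he
  have h2 : x 2 ∈ U ∩ Z := by rw [← hUZ]; show f (x 2) ∈ E; rw [hfx]; exact hyE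
  have h1 : x 1 ∈ f ⁻¹' E := by
    rw [hUZ]
    exact ⟨(hx 1 2 (by decide)).mem_open hU h2.1, (hx 0 1 (by decide)).mem_closed hZ h0.2⟩
  have h1' : f (x 1) ∈ E := h1
  rwa [hfx] at h1'


theorem exists_nhds_of_fp {S' S : Scheme.{u}} (f : S' ⟶ S) [CompactSpace S] [QuasiSeparatedSpace S]
    [LocallyOfFinitePresentation f] [QuasiCompact f] [QuasiSeparated f]
    (hf : Subtr.UnivSSubtrusive f) {E : Set S} (hl : IsLocallyClosed (f ⁻¹' E)) {y : S} (hy : y ∈ E) :
    ∃ W : Set S, IsOpen W ∧ y ∈ W ∧ IsLocallyClosed (E ∩ W) := by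
  have hpre : Subtr.IsSSubtrusive f := hf _ _ _ (IsPullback.id_horiz f).flip
  haveI : CompactSpace S' := QuasiCompact.compactSpace_of_compactSpace f
  haveI : QuasiSeparatedSpace S' := quasiSeparatedSpace_of_quasiSeparated f
  haveI := spectralSpace_scheme S'
  haveI := spectralSpace_scheme S
  obtain ⟨U, Z, hU, hZ, hUZ⟩ := hl
  have hfib : f ⁻¹' {y} ⊆ U := fun x hx => by
    have : x ∈ U ∩ Z := by rw [← hUZ]; show f x ∈ E; rw [show f x = y from hx]; exact hy
    exact this.1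
  obtain ⟨V, hVo, hVc, hfV, hVU⟩ : ∃ V : Set S', IsOpen V ∧ IsCompact V ∧ f ⁻¹' {y} ⊆ V ∧ V ⊆ U := by
    have key : ∀ x : U, ∃ V : Set S', (IsOpen V ∧ IsCompact V) ∧ x.1 ∈ V ∧ V ⊆ U := fun x =>
      PrespectralSpace.isTopologicalBasis.exists_subset_of_mem_open x.2 hU
    choose V hV hxV hVU using key
    obtain ⟨σ, hσ⟩ := (f.isCompact_preimage_singleton y).elim_finite_subcover V (fun x => (hV x).1)
      fun x hx => mem_iUnion.2 ⟨⟨x, hfib hx⟩, hxV _⟩
    exact ⟨⋃ x ∈ σ, V x, isOpen_biUnion fun x _ => (hV x).1, σ.finite_toSet.isCompact_biUnion fun x _ => (hV x).2,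
      hσ, iUnion₂_subset fun x _ => hVU x⟩
  have hVcons : IsLocallyConstructible V := by
    refine (isLocallyConstructible_iff_pro_and_ind _).2 ⟨(isProConstructible_iff_isClosed _).2 ?_,
      (isIndConstructible_iff_isOpen _).2 ?_⟩
    · exact isClosed_C_of_compactOpen hVo hVc
    · exact isOpen_C_of_compactOpen hVo hVc
  have himg : ProCons.IsProConstructible (f '' V)ᶜ :=
    ((isLocallyConstructible_iff_pro_and_ind _).1 (isLocallyConstructible_compl (f.isLocallyConstructible_image hVcons))).1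
  have hyN : y ∉ closure (f '' V)ᶜ := fun h => by
    obtain ⟨z, hz, hzy⟩ := DomLib.exists_specializes_of_mem_closure himg h
    obtain ⟨x, x', hx, e, e'⟩ := hpre hzy
    exact hz ⟨x', hx.mem_open hVo (hfV e), e'⟩
  obtain ⟨W, ⟨hWo, hWc⟩, hyW, hWN⟩ := PrespectralSpace.isTopologicalBasis.exists_subset_of_mem_open
    (show y ∈ (closure (f '' V)ᶜ)ᶜ from hyN) isClosed_closure.isOpen_compl
  have e : E ∩ W = f '' (V ∩ Z) ∩ W := by
    ext z
    constructor
    · rintro ⟨hzE, hzW⟩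
      obtain ⟨x, hxV, rfl⟩ : z ∈ f '' V := not_not.1 fun h => hWN hzW (subset_closure h)
      have : x ∈ U ∩ Z := hUZ.subset hzE
      exact ⟨⟨x, ⟨hxV, this.2⟩, rfl⟩, hzW⟩
    · rintro ⟨⟨x, ⟨hxV, hxZ⟩, rfl⟩, hzW⟩
      exact ⟨hUZ.symm.subset ⟨hVU hxV, hxZ⟩, hzW⟩
  have hpro : ProCons.IsProConstructible (E ∩ W) := by
    rw [e, isProConstructible_iff_isClosed]
    refine @IsClosed.inter S _ _ (constructibleTopology S) ((isProConstructible_iff_isClosed _).1
      (isProConstructible_image f ((isProConstructible_iff_isClosed _).2 ?_))) (isClosed_C_of_compactOpen hWo hWc)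
    exact @IsClosed.inter S' _ _ (constructibleTopology S') (isClosed_C_of_compactOpen hVo hVc) (isClosed_C_of_isClosed hZ)
  exact ⟨W, hWo, hyW, isLocallyClosed_of_preimage f hf hpro
    (IsLocallyClosed.inter ⟨U, Z, hU, hZ, hUZ⟩ (hWo.preimage f.continuous).isLocallyClosed)⟩

theorem isLocallyClosed_iff_preimage_of_fp {S' S : Scheme.{u}} (f : S' ⟶ S)
    [LocallyOfFinitePresentation f] [QuasiCompact f] [QuasiSeparated f]
    (hf : Subtr.UnivSSubtrusive f) (E : Set S) :
    IsLocallyClosed E ↔ IsLocallyClosed (f ⁻¹' E) := by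
  refine ⟨fun h => h.preimage f.continuous, fun hl => ((isLocallyClosed_tfae E).out 3 0).1 fun y hy => ?_⟩
  obtain ⟨A, hA, hyA, -⟩ := exists_isAffineOpen_mem_and_subset (Opens.mem_top y)
  haveI : IsAffine A.toScheme := hA
  haveI : (Subtr.UnivSSubtrusive.{u}).IsStableUnderBaseChange := MorphismProperty.universally_isStableUnderBaseChange _
  have hfA : Subtr.UnivSSubtrusive (f ∣_ A) :=
    MorphismProperty.of_isPullback (P := Subtr.UnivSSubtrusive.{u}) (isPullback_morphismRestrict f A).flip hf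
  have hlA : IsLocallyClosed ((f ∣_ A) ⁻¹' (A.ι ⁻¹' E)) := by
    rw [← Set.preimage_comp, ← TopCat.coe_comp, ← Scheme.Hom.comp_base, morphismRestrict_ι, Scheme.Hom.comp_base,
      TopCat.coe_comp, Set.preimage_comp]
    exact hl.preimage (f ⁻¹ᵁ A).ι.continuous
  obtain ⟨W, hWo, hyW, hW⟩ := exists_nhds_of_fp (f ∣_ A) hfA (E := A.ι ⁻¹' E) hlA (y := ⟨y, hyA⟩) hy
  have hW' : IsLocallyClosed (A.ι '' (A.ι ⁻¹' E ∩ W)) :=
    hW.image A.ι.isOpenEmbedding.isInducing A.ι.isOpenEmbedding.isOpen_range.isLocallyClosed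
  rw [Set.image_preimage_inter] at hW'
  have hWS : IsOpen (A.ι '' W) := A.ι.isOpenEmbedding.isOpenMap _ hWo
  have hy' : y ∈ E ∩ A.ι '' W := ⟨hy, ⟨y, hyA⟩, hyW, rfl⟩
  have key : ∀ x ∈ E ∩ A.ι '' W, ∃ U, x ∈ U ∧ IsOpen U ∧ U ∩ closure (E ∩ A.ι '' W) ⊆ E ∩ A.ι '' W :=
    ((isLocallyClosed_tfae (E ∩ A.ι '' W)).out 0 3).1 hW'
  obtain ⟨U, hyU, hU, hUs⟩ := key y hy'
  exact ⟨U ∩ A.ι '' W, ⟨hyU, hy'.2⟩, hU.inter hWS, fun z hz => (hUs ⟨hz.1.1,
    closure_mono (t := E ∩ A.ι '' W) (s := A.ι '' W ∩ E) (fun _ h => ⟨h.2, h.1⟩) (hWS.inter_closure ⟨hz.1.2, hz.2⟩)⟩).1⟩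

end Groth.Agent.SubtrVal
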